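import Cfsg.Agent.UniInvol.DataF4
import Cfsg.Prelude.Def_ChevF4

/-!
# The certificates for the involutions of `F4` are valid
-/

set_option autoImplicit false
set_option maxRecDepth 20000

namespace CfsgLib.UniInvol.F4

open Cfsg.Lie

theorem tbl_ok : chkTbl chevF4 tbl = true := by decide +kernel

theorem table_ok : chkTable chevF4 tbl reps table = true := by decide +kernel

end CfsgLib.UniInvol.F4
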