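import Cfsg.Agent.UniInvol.Rank
import Cfsg.Prelude.Def_ChevF4

/-!
# Rank certificates for involutions of `F4`
-/

set_option autoImplicit false
set_option maxRecDepth 20000

namespace CfsgLib.UniInvol.F4

open Cfsg.Lie CfsgLib.Chevalley

/-- The certificate for `[47]`. -/
def cert0 : RankCert where
  left :=
    Trie.ofRows [[(0, 1)], [], [(0, 1)], [], [], [], [], [], [], [], [], [], [], [], [], [], [], [], [],
      [], [], [], [], [], [], [], [], [], [(1, 1)], [], [(2, 1)], [], [], [(3, 1)], [], [(4, 1)], [(5,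
      1)], [], [], [], [(6, 1)], [], [(7, 1)], [(8, 1)], [(9, 1)], [], [(10, 1)], [(11, 1)], [(12, 1)],
      [(13, 1)], [(14, 1)], [(15, 1)]]
  right :=
    Trie.ofRows [[(4, 1)], [(5, 1)], [(6, 1)], [(7, 1)], [(8, 1)], [(9, 1)], [(11, 1)], [(12, 1)], [(13,
      1)], [(15, 1)], [(19, 1)], [(20, 1)], [(22, 1)], [(25, 1)], [(27, 1)], [(3, 1), (4, 1)], [], [], [],
      [], [], [], [], [], [], [], [], [], [], [], [], [], [], [], [], [], [], [], [], [], [], [], [], [],
      [], [], [], [], [], [], [], []]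
  rowOp :=
    Trie.ofRows [[(0, 1)], [(28, 1)], [(30, 1)], [(33, 1)], [(35, 1)], [(36, 1)], [(40, 1)], [(42, 1)],
      [(43, 1)], [(44, 1)], [(46, 1)], [(47, 1)], [(48, 1)], [(49, 1)], [(50, 1)], [(51, 1)], [], [], [],
      [], [], [], [], [], [], [], [], [], [], [], [], [], [], [], [], [], [], [], [], [], [], [], [], [],
      [], [], [], [], [], [], [], []]
  colOp :=
    Trie.ofRows [[], [], [], [(0, 1), (15, 1)], [(0, 1)], [(1, 1)], [(2, 1)], [(3, 1)], [(4, 1)], [(5,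
      1)], [], [(6, 1)], [(7, 1)], [(8, 1)], [], [(9, 1)], [], [], [], [(10, 1)], [(11, 1)], [], [(12,
      1)], [], [], [(13, 1)], [], [(14, 1)], [], [], [], [], [], [], [], [], [], [], [], [], [], [], [],
      [], [], [], [], [], [], [], [], []]

theorem prod0_ok : chkProd chevF4 [47] = true := by decide +kernel

theorem rank0_ok : chkRank (4 + 48) 16 (dMat chevF4 [47]) cert0 = true := by decide +kernel

/-- The certificate for `[44]`. -/
def cert1 : RankCert where
  left :=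
    Trie.ofRows [[], [(0, 1)], [], [], [], [], [], [], [], [], [], [], [], [], [], [], [], [], [], [], [],
      [], [(1, 1)], [(2, 1)], [(3, 1)], [], [], [], [], [], [], [(4, 1)], [(5, 1)], [(6, 1)], [], [], [],
      [(7, 1)], [(8, 1)], [(9, 1)], [(10, 1)], [(11, 1)], [(12, 1)], [(13, 1)], [(14, 1)], [(1, 1)], [(2,
      1)], [(3, 1)], [(15, 1)], [(4, 1)], [(5, 1)], [(6, 1)]]
  right :=
    Trie.ofRows [[(7, 1)], [(4, 1)], [(5, 1)], [(6, 1)], [(8, 1)], [(9, 1)], [(10, 1)], [(11, 1)], [(12,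
      1)], [(13, 1)], [(14, 1)], [(15, 1)], [(16, 1)], [(17, 1)], [(18, 1)], [(0, 1), (7, 1)], [], [], [],
      [], [], [], [], [], [], [], [], [], [], [], [], [], [], [], [], [], [], [], [], [], [], [], [], [],
      [], [], [], [], [], [], [], []]
  rowOp :=
    Trie.ofRows [[(1, 1)], [(22, 1)], [(23, 1)], [(24, 1)], [(31, 1)], [(32, 1)], [(33, 1)], [(37, 1)],
      [(38, 1)], [(39, 1)], [(40, 1)], [(41, 1)], [(42, 1)], [(43, 1)], [(44, 1)], [(48, 1)], [], [], [],
      [], [], [], [], [], [], [], [], [], [], [], [], [], [], [], [], [], [], [], [], [], [], [], [], [],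
      [], [], [], [], [], [], [], []]
  colOp :=
    Trie.ofRows [[(0, 1), (15, 1)], [], [], [], [(1, 1)], [(2, 1)], [(3, 1)], [(0, 1)], [(4, 1)], [(5,
      1)], [(6, 1)], [(7, 1)], [(8, 1)], [(9, 1)], [(10, 1)], [(11, 1)], [(12, 1)], [(13, 1)], [(14, 1)],
      [], [], [], [], [], [], [], [], [], [], [], [], [], [], [], [], [], [], [], [], [], [], [], [], [],
      [], [], [], [], [], [], [], []]

theorem prod1_ok : chkProd chevF4 [44] = true := by decide +kernel

theorem rank1_ok : chkRank (4 + 48) 16 (dMat chevF4 [44]) cert1 = true := by decide +kernel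

/-- The certificate for `[44, 47]`. -/
def cert2 : RankCert where
  left :=
    Trie.ofRows [[(0, 1)], [(1, 1)], [(0, 1)], [], [], [], [], [], [], [], [], [], [], [], [], [], [], [],
      [], [], [], [], [(0, 1)], [(2, 1)], [(3, 1)], [], [], [], [(2, 1)], [], [(3, 1)], [(4, 1)], [(5,
      1)], [(6, 1)], [], [(4, 1)], [(5, 1)], [(7, 1)], [(8, 1)], [(9, 1)], [(10, 1)], [(11, 1)], [(12,
      1)], [(13, 1)], [(14, 1)], [(0, 1)], [(15, 1)], [(16, 1)], [(17, 1)], [(18, 1)], [(19, 1)], [(20,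
      1)]]
  right :=
    Trie.ofRows [[(4, 1)], [(7, 1)], [(5, 1)], [(6, 1)], [(8, 1)], [(9, 1)], [(7, 1), (10, 1)], [(11, 1)],
      [(12, 1)], [(13, 1)], [(11, 1), (14, 1)], [(15, 1)], [(12, 1), (16, 1)], [(13, 1), (17, 1)], [(15,
      1), (18, 1)], [(5, 1), (19, 1)], [(6, 1), (20, 1)], [(0, 1), (4, 1), (7, 1), (22, 1)], [(8, 1), (25,
      1)], [(9, 1), (27, 1)], [(3, 1), (4, 1), (10, 1)], [], [], [], [], [], [], [], [], [], [], [], [],
      [], [], [], [], [], [], [], [], [], [], [], [], [], [], [], [], [], [], []]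
  rowOp :=
    Trie.ofRows [[(0, 1)], [(1, 1)], [(23, 1)], [(24, 1)], [(31, 1)], [(32, 1)], [(33, 1)], [(37, 1)],
      [(38, 1)], [(39, 1)], [(40, 1)], [(41, 1)], [(42, 1)], [(43, 1)], [(44, 1)], [(46, 1)], [(47, 1)],
      [(48, 1)], [(49, 1)], [(50, 1)], [(51, 1)], [], [], [], [], [], [], [], [], [], [], [], [], [], [],
      [], [], [], [], [], [], [], [], [], [], [], [], [], [], [], [], []]
  colOp :=
    Trie.ofRows [[], [], [], [(0, 1), (1, 1), (6, 1), (20, 1)], [(0, 1)], [(2, 1)], [(3, 1)], [(1, 1)],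
      [(4, 1)], [(5, 1)], [(1, 1), (6, 1)], [(7, 1)], [(8, 1)], [(9, 1)], [(7, 1), (10, 1)], [(11, 1)],
      [(8, 1), (12, 1)], [(9, 1), (13, 1)], [(11, 1), (14, 1)], [(2, 1), (15, 1)], [(3, 1), (16, 1)], [],
      [(0, 1), (1, 1), (17, 1)], [], [], [(4, 1), (18, 1)], [], [(5, 1), (19, 1)], [], [], [], [], [], [],
      [], [], [], [], [], [], [], [], [], [], [], [], [], [], [], [], [], []]

theorem prod2_ok : chkProd chevF4 [44, 47] = true := by decide +kernel

theorem rank2_ok : chkRank (4 + 48) 21 (dMat chevF4 [44, 47]) cert2 = true := by decide +kernel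

/-- The certificate for `[39, 45]`. -/
def cert3 : RankCert where
  left :=
    Trie.ofRows [[(0, 1)], [], [], [(1, 1)], [], [], [], [], [], [], [], [], [], [(2, 1)], [(3, 1)], [],
      [], [(4, 1)], [(5, 1)], [], [], [], [], [], [(6, 1)], [(2, 1)], [(3, 1)], [], [], [(2, 1)], [(3,
      1)], [(4, 1)], [(7, 1)], [(8, 1)], [(9, 1)], [(10, 1)], [(5, 1)], [(11, 1)], [(6, 1)], [(12, 1)],
      [(13, 1)], [(14, 1)], [(15, 1)], [(16, 1)], [(17, 1)], [(18, 1)], [(19, 1)], [(11, 1)], [(20, 1)],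
      [(21, 1)], [(22, 1)], [(23, 1)]]
  right :=
    Trie.ofRows [[(6, 1), (12, 1)], [(6, 1)], [(4, 1)], [(5, 1)], [(7, 1)], [(8, 1)], [(11, 1)], [(15,
      1)], [(16, 1)], [(9, 1)], [(10, 1)], [(19, 1)], [(22, 1)], [(23, 1)], [(4, 1), (13, 1), (25, 1)],
      [(5, 1), (14, 1), (26, 1)], [(1, 1), (2, 1), (12, 1)], [(7, 1), (17, 1), (31, 1)], [(20, 1)], [(21,
      1)], [(11, 1), (24, 1), (38, 1)], [(2, 1), (6, 1)], [(4, 1), (25, 1), (29, 1)], [(5, 1), (26, 1),
      (30, 1)], [], [], [], [], [], [], [], [], [], [], [], [], [], [], [], [], [], [], [], [], [], [],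
      [], [], [], [], [], []]
  rowOp :=
    Trie.ofRows [[(0, 1)], [(3, 1)], [(13, 1)], [(14, 1)], [(17, 1)], [(18, 1)], [(24, 1)], [(32, 1)],
      [(33, 1)], [(34, 1)], [(35, 1)], [(37, 1)], [(39, 1)], [(40, 1)], [(41, 1)], [(42, 1)], [(43, 1)],
      [(44, 1)], [(45, 1)], [(46, 1)], [(48, 1)], [(49, 1)], [(50, 1)], [(51, 1)], [], [], [], [], [], [],
      [], [], [], [], [], [], [], [], [], [], [], [], [], [], [], [], [], [], [], [], [], []]
  colOp :=
    Trie.ofRows [[], [(0, 1), (16, 1), (21, 1)], [(1, 1), (21, 1)], [], [(2, 1)], [(3, 1)], [(1, 1)], [(4,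
      1)], [(5, 1)], [(9, 1)], [(10, 1)], [(6, 1)], [(0, 1), (1, 1)], [], [], [(7, 1)], [(8, 1)], [], [],
      [(11, 1)], [(18, 1)], [(19, 1)], [(12, 1)], [(13, 1)], [], [(2, 1), (14, 1)], [(3, 1), (15, 1)], [],
      [], [(14, 1), (22, 1)], [(15, 1), (23, 1)], [(4, 1), (17, 1)], [], [], [], [], [], [], [(6, 1), (20,
      1)], [], [], [], [], [], [], [], [], [], [], [], [], []]

theorem prod3_ok : chkProd chevF4 [39, 45] = true := by decide +kernel

theorem rank3_ok : chkRank (4 + 48) 24 (dMat chevF4 [39, 45]) cert3 = true := by decide +kernel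

end CfsgLib.UniInvol.F4
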