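import Cfsg.Agent.UniInvol.Classes
import Cfsg.Agent.UniInvol.CheckF4
import Cfsg.Agent.UniInvol.RankF4
import Cfsg.Agent.Chevalley.WeylData
import Cfsg.Agent.Weyl.RootF4

/-!
# The classes of involutions of `F4` in characteristic two
-/

set_option autoImplicit false

namespace CfsgLib.UniInvol.F4

open Cfsg.Lie CfsgLib.Chevalley

variable {F : Type*} [Field F]

theorem hW : GoodWeyl chevF4 := goodWeyl_of_mem (by simp)

theorem coe_pat : ∀ L : List ℕ, (∀ k ∈ L, k < chevF4.nroots) →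
    (pat F hW L : Matrix chevF4.Idx chevF4.Idx F) = (L.map fun k => chevF4.x F k 1).prod
  | [], _ => by simp
  | k :: L, h => by
    have hk := h k (by simp)
    rw [pat_cons, Units.val_mul, List.map_cons, List.prod_cons, coe_pat L fun j hj => h j (by simp [hj]),
      xk, dif_pos hk, coe_X, ← x_eq_xR hW.good F ⟨k, hk⟩]

variable [CharP F 2]

/-- The representatives as printed. -/
def repMats (F : Type*) [Field F] : List (Matrix chevF4.Idx chevF4.Idx F) :=
  [chevF4.x F 47 1, 
    chevF4.x F 44 1, 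
    chevF4.x F 47 1 * chevF4.x F 44 1, 
    chevF4.x F 39 1 * chevF4.x F 45 1]

theorem coe_pat0 :
    (pat F hW [47] : Matrix chevF4.Idx chevF4.Idx F) = chevF4.x F 47 1 := by
  rw [coe_pat _ (by decide +kernel)]
  simp [mul_assoc]

theorem orderOf_pat0 : orderOf (pat F hW [47]) = 2 :=
  orderOf_pat tbl_ok (by decide +kernel) prod0_ok (r := 15) rank0_ok

theorem coe_pat1 :
    (pat F hW [44] : Matrix chevF4.Idx chevF4.Idx F) = chevF4.x F 44 1 := by
  rw [coe_pat _ (by decide +kernel)]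
  simp [mul_assoc]

theorem orderOf_pat1 : orderOf (pat F hW [44]) = 2 :=
  orderOf_pat tbl_ok (by decide +kernel) prod1_ok (r := 15) rank1_ok

theorem coe_pat2 :
    (pat F hW [44, 47] : Matrix chevF4.Idx chevF4.Idx F) = chevF4.x F 47 1 * chevF4.x F 44 1 := by
  rw [pat_eq_of_chkEq (T := tbl) tbl_ok (L' := [47, 44]) (by decide +kernel), coe_pat _ (by decide +kernel)]
  simp

theorem orderOf_pat2 : orderOf (pat F hW [44, 47]) = 2 :=
  orderOf_pat tbl_ok (by decide +kernel) prod2_ok (r := 20) rank2_ok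

theorem coe_pat3 :
    (pat F hW [39, 45] : Matrix chevF4.Idx chevF4.Idx F) = chevF4.x F 39 1 * chevF4.x F 45 1 := by
  rw [coe_pat _ (by decide +kernel)]
  simp [mul_assoc]

theorem orderOf_pat3 : orderOf (pat F hW [39, 45]) = 2 :=
  orderOf_pat tbl_ok (by decide +kernel) prod3_ok (r := 23) rank3_ok

theorem mem_repMats_iff {y : GL chevF4.Idx F} :
    (y : Matrix chevF4.Idx chevF4.Idx F) ∈ repMats F ↔ ∃ L ∈ reps, y = pat F hW L := by
  rw [repMats, ← coe_pat2, ← coe_pat3, ← coe_pat1, ← coe_pat0]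
  simp only [reps, List.mem_cons, List.not_mem_nil, or_false, or_and_right, exists_or, exists_eq_left,
    ← Units.ext_iff]

theorem mem_group_and_orderOf {y : GL chevF4.Idx F}
    (h : (y : Matrix chevF4.Idx chevF4.Idx F) ∈ repMats F) : y ∈ chevF4.group F ∧ orderOf y = 2 := by
  obtain ⟨L, hL, rfl⟩ := mem_repMats_iff.1 h
  refine ⟨pat_mem_group L, ?_⟩
  simp only [reps, List.mem_cons, List.not_mem_nil, or_false] at hL
  rcases hL with rfl | rfl | rfl | rfl
  · exact orderOf_pat0
  · exact orderOf_pat1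
  · exact orderOf_pat2
  · exact orderOf_pat3

theorem exists_conj_mem_repMats [Fintype F] {g : GL chevF4.Idx F} (hg : g ∈ chevF4.group F)
    (h2 : orderOf g = 2) : ∃ y ∈ chevF4.group F, (y : Matrix chevF4.Idx chevF4.Idx F) ∈ repMats F ∧
      ∃ h ∈ chevF4.group F, h * g * h⁻¹ = y := by
  obtain ⟨h, hh, L, hL, e⟩ := exists_conj_pat (hW := hW) Weyl.rootF4_good tbl_ok table_ok hg h2
  exact ⟨_, pat_mem_group L, mem_repMats_iff.2 ⟨L, hL, rfl⟩, h, hh, e⟩

/-- The long roots. -/
def longRoot (r : ℕ) : Bool :=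
  [0, 1, 2, 4, 5, 6, 15, 16, 17, 21, 22, 23, 24, 25, 26, 30, 31, 32, 41, 42, 43, 45, 46, 47].contains r

theorem longRoot_closed (i : Fin chevF4.rank) (r : Root chevF4) (h : longRoot r = true) :
    longRoot (chevF4.reflectRoot i r) = true := by
  have key : ∀ i < 4, ∀ r < 48, longRoot r = true → longRoot (chevF4.reflectRoot i r) = true := by
    decide +kernel
  exact key i i.2 r r.2 h

theorem not_conj_long_short {g : GL chevF4.Idx F} (hg : g ∈ chevF4.group F) :
    g * pat F hW [47] * g⁻¹ ≠ pat F hW [44] := by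
  simp only [pat_cons, pat_nil, mul_one]
  rw [xk, xk, dif_pos (by decide +kernel : 47 < chevF4.nroots), dif_pos (by decide +kernel : 44 < chevF4.nroots)]
  exact not_conj_top (hW := hW) Weyl.rootF4_good longRoot_closed (by decide +kernel) (by decide +kernel)
    (by decide +kernel) (by decide +kernel) (by decide +kernel) hg

theorem eq_of_conj {y₁ y₂ : GL chevF4.Idx F}
    (h₁ : (y₁ : Matrix chevF4.Idx chevF4.Idx F) ∈ repMats F)
    (h₂ : (y₂ : Matrix chevF4.Idx chevF4.Idx F) ∈ repMats F)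
    {h : GL chevF4.Idx F} (hh : h ∈ chevF4.group F) (e : h * y₁ * h⁻¹ = y₂) : y₁ = y₂ := by
  obtain ⟨L₁, hL₁, rfl⟩ := mem_repMats_iff.1 h₁
  obtain ⟨L₂, hL₂, rfl⟩ := mem_repMats_iff.1 h₂
  have hr := rank_sub_one_conj h (pat F hW L₁)
  rw [e] at hr
  have r0 := rank_pat (hW := hW) (F := F) prod0_ok rank0_ok
  have r1 := rank_pat (hW := hW) (F := F) prod1_ok rank1_ok
  have r2 := rank_pat (hW := hW) (F := F) prod2_ok rank2_ok
  have r3 := rank_pat (hW := hW) (F := F) prod3_ok rank3_ok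
  have key : L₁ = L₂ ∨ (L₁ = [47] ∧ L₂ = [44]) ∨ (L₁ = [44] ∧ L₂ = [47]) := by
    simp only [reps, List.mem_cons, List.not_mem_nil, or_false] at hL₁ hL₂
    rcases hL₁ with rfl | rfl | rfl | rfl <;> rcases hL₂ with rfl | rfl | rfl | rfl <;>
      first
      | (exfalso; omega)
      | simp
  rcases key with rfl | ⟨rfl, rfl⟩ | ⟨rfl, rfl⟩
  · rfl
  · exact absurd e (not_conj_long_short hh)
  · refine absurd ?_ (not_conj_long_short (inv_mem hh))
    rw [← e]
    group

end CfsgLib.UniInvol.F4
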