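import Cfsg.Agent.UniInvol.Rank
import Cfsg.Prelude.Def_ChevE6

/-!
# Rank certificates for involutions of `E6`
-/

set_option autoImplicit false
set_option maxRecDepth 20000

namespace CfsgLib.UniInvol.E6

open Cfsg.Lie CfsgLib.Chevalley

/-- The certificate for `[71]`. -/
def cert0 : RankCert where
  left :=
    Trie.ofRows [[(0, 1)], [], [], [(0, 1)], [], [(0, 1)], [], [], [], [], [], [], [], [], [], [], [], [],
      [], [], [], [], [], [], [], [], [], [], [], [], [], [], [], [], [], [], [], [], [], [], [], [], [],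
      [], [], [], [], [], [], [], [], [], [(1, 1)], [(2, 1)], [(3, 1)], [(4, 1)], [(5, 1)], [(6, 1)], [(7,
      1)], [(8, 1)], [(9, 1)], [(10, 1)], [], [], [], [], [], [(11, 1)], [(12, 1)], [(13, 1)], [(14, 1)],
      [(15, 1)], [(16, 1)], [(17, 1)], [(18, 1)], [(19, 1)], [(20, 1)], [(21, 1)]]
  right :=
    Trie.ofRows [[(6, 1)], [(7, 1)], [(8, 1)], [(9, 1)], [(10, 1)], [(11, 1)], [(12, 1)], [(13, 1)], [(14,
      1)], [(15, 1)], [(16, 1)], [(22, 1)], [(23, 1)], [(24, 1)], [(25, 1)], [(26, 1)], [(27, 1)], [(28,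
      1)], [(29, 1)], [(30, 1)], [(31, 1)], [(1, 1), (6, 1)], [], [], [], [], [], [], [], [], [], [], [],
      [], [], [], [], [], [], [], [], [], [], [], [], [], [], [], [], [], [], [], [], [], [], [], [], [],
      [], [], [], [], [], [], [], [], [], [], [], [], [], [], [], [], [], [], [], []]
  rowOp :=
    Trie.ofRows [[(0, 1)], [(52, 1)], [(53, 1)], [(54, 1)], [(55, 1)], [(56, 1)], [(57, 1)], [(58, 1)],
      [(59, 1)], [(60, 1)], [(61, 1)], [(67, 1)], [(68, 1)], [(69, 1)], [(70, 1)], [(71, 1)], [(72, 1)],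
      [(73, 1)], [(74, 1)], [(75, 1)], [(76, 1)], [(77, 1)], [], [], [], [], [], [], [], [], [], [], [],
      [], [], [], [], [], [], [], [], [], [], [], [], [], [], [], [], [], [], [], [], [], [], [], [], [],
      [], [], [], [], [], [], [], [], [], [], [], [], [], [], [], [], [], [], [], []]
  colOp :=
    Trie.ofRows [[], [(0, 1), (21, 1)], [], [], [], [], [(0, 1)], [(1, 1)], [(2, 1)], [(3, 1)], [(4, 1)],
      [(5, 1)], [(6, 1)], [(7, 1)], [(8, 1)], [(9, 1)], [(10, 1)], [], [], [], [], [], [(11, 1)], [(12,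
      1)], [(13, 1)], [(14, 1)], [(15, 1)], [(16, 1)], [(17, 1)], [(18, 1)], [(19, 1)], [(20, 1)], [], [],
      [], [], [], [], [], [], [], [], [], [], [], [], [], [], [], [], [], [], [], [], [], [], [], [], [],
      [], [], [], [], [], [], [], [], [], [], [], [], [], [], [], [], [], [], []]

theorem prod0_ok : chkProd chevE6 [71] = true := by decide +kernel

theorem rank0_ok : chkRank (6 + 72) 22 (dMat chevE6 [71]) cert0 = true := by decide +kernel

/-- The certificate for `[66, 68]`. -/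
def cert1 : RankCert where
  left :=
    Trie.ofRows [[(0, 1)], [(0, 1)], [(1, 1)], [], [(0, 1), (1, 1)], [(0, 1)], [], [], [], [], [], [], [],
      [], [], [], [], [], [], [], [], [], [], [], [], [], [], [(2, 1)], [], [(2, 1)], [], [], [], [], [(3,
      1)], [(4, 1)], [], [(3, 1)], [], [], [(4, 1)], [], [(5, 1)], [(6, 1)], [(7, 1)], [], [(8, 1)], [(9,
      1)], [(6, 1)], [(8, 1)], [], [(10, 1)], [], [], [(11, 1)], [(12, 1)], [(11, 1)], [], [(13, 1)], [],
      [(14, 1)], [(15, 1)], [(16, 1)], [(17, 1)], [(18, 1)], [(19, 1)], [(20, 1)], [(21, 1)], [(22, 1)],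
      [(23, 1)], [(24, 1)], [(25, 1)], [(26, 1)], [(27, 1)], [(28, 1)], [(29, 1)], [(30, 1)], [(31, 1)]]
  right :=
    Trie.ofRows [[(9, 1), (11, 1)], [(11, 1)], [(6, 1)], [(7, 1)], [(8, 1)], [(10, 1)], [(12, 1)], [(13,
      1)], [(14, 1)], [(15, 1)], [(16, 1)], [(17, 1)], [(18, 1)], [(19, 1)], [(20, 1)], [(21, 1)], [(22,
      1)], [(23, 1)], [(25, 1)], [(28, 1)], [(6, 1), (27, 1), (29, 1)], [(32, 1)], [(36, 1)], [(7, 1),
      (34, 1), (37, 1)], [(39, 1)], [(8, 1), (35, 1), (40, 1)], [(0, 1), (2, 1), (4, 1), (11, 1)], [(41,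
      1)], [(2, 1), (4, 1), (5, 1), (9, 1)], [(12, 1), (43, 1), (48, 1)], [(14, 1), (46, 1), (49, 1)],
      [(17, 1), (54, 1), (56, 1)], [], [], [], [], [], [], [], [], [], [], [], [], [], [], [], [], [], [],
      [], [], [], [], [], [], [], [], [], [], [], [], [], [], [], [], [], [], [], [], [], [], [], [], [],
      [], [], []]
  rowOp :=
    Trie.ofRows [[(0, 1)], [(2, 1)], [(27, 1)], [(34, 1)], [(35, 1)], [(42, 1)], [(43, 1)], [(44, 1)],
      [(46, 1)], [(47, 1)], [(51, 1)], [(54, 1)], [(55, 1)], [(58, 1)], [(60, 1)], [(61, 1)], [(62, 1)],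
      [(63, 1)], [(64, 1)], [(65, 1)], [(66, 1)], [(67, 1)], [(68, 1)], [(69, 1)], [(70, 1)], [(71, 1)],
      [(72, 1)], [(73, 1)], [(74, 1)], [(75, 1)], [(76, 1)], [(77, 1)], [], [], [], [], [], [], [], [],
      [], [], [], [], [], [], [], [], [], [], [], [], [], [], [], [], [], [], [], [], [], [], [], [], [],
      [], [], [], [], [], [], [], [], [], [], [], [], []]
  colOp :=
    Trie.ofRows [[], [], [], [], [(1, 1), (26, 1)], [(0, 1), (26, 1), (28, 1)], [(2, 1)], [(3, 1)], [(4,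
      1)], [(0, 1), (1, 1)], [(5, 1)], [(1, 1)], [(6, 1)], [(7, 1)], [(8, 1)], [(9, 1)], [(10, 1)], [(11,
      1)], [(12, 1)], [(13, 1)], [(14, 1)], [(15, 1)], [(16, 1)], [(17, 1)], [], [(18, 1)], [], [], [(19,
      1)], [(2, 1), (20, 1)], [], [], [(21, 1)], [], [], [], [(22, 1)], [(3, 1), (23, 1)], [], [(24, 1)],
      [(4, 1), (25, 1)], [(27, 1)], [], [], [], [], [], [], [(6, 1), (29, 1)], [(8, 1), (30, 1)], [], [],
      [], [], [], [], [(11, 1), (31, 1)], [], [], [], [], [], [], [], [], [], [], [], [], [], [], [], [],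
      [], [], [], [], []]

theorem prod1_ok : chkProd chevE6 [66, 68] = true := by decide +kernel

theorem rank1_ok : chkRank (6 + 72) 32 (dMat chevE6 [66, 68]) cert1 = true := by decide +kernel

/-- The certificate for `[55, 65, 67]`. -/
def cert2 : RankCert where
  left :=
    Trie.ofRows [[(0, 1)], [(1, 1)], [(2, 1)], [], [(0, 1)], [(2, 1)], [], [], [], [], [], [], [], [], [],
      [], [(3, 1)], [], [], [(4, 1)], [(5, 1)], [(6, 1)], [], [], [], [], [(3, 1)], [], [(3, 1)], [], [],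
      [], [], [(4, 1)], [], [(7, 1)], [(4, 1)], [], [], [(5, 1)], [(6, 1)], [(7, 1)], [(8, 1)], [(9, 1)],
      [(10, 1)], [(11, 1)], [(12, 1)], [(13, 1)], [(8, 1)], [(14, 1)], [(15, 1)], [(16, 1)], [], [(17,
      1)], [(18, 1)], [(19, 1)], [(20, 1)], [(21, 1)], [(22, 1)], [(23, 1)], [(24, 1)], [(25, 1)], [(9,
      1)], [(10, 1)], [(3, 1), (13, 1), (15, 1)], [(26, 1)], [(27, 1)], [(4, 1), (19, 1), (21, 1)], [(28,
      1)], [(29, 1)], [(30, 1)], [(31, 1)], [(32, 1)], [(33, 1)], [(34, 1)], [(35, 1)], [(36, 1)], [(37,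
      1)]]
  right :=
    Trie.ofRows [[(10, 1), (12, 1)], [(10, 1), (12, 1), (22, 1)], [(12, 1), (22, 1)], [(6, 1)], [(7, 1)],
      [(8, 1)], [(11, 1)], [(9, 1)], [(13, 1)], [(23, 1)], [(24, 1)], [(14, 1)], [(25, 1)], [(6, 1), (16,
      1), (26, 1)], [(15, 1)], [(6, 1), (16, 1), (28, 1)], [(29, 1)], [(17, 1)], [(32, 1)], [(7, 1), (19,
      1), (33, 1)], [(18, 1)], [(7, 1), (19, 1), (36, 1)], [(37, 1)], [(8, 1), (20, 1), (39, 1)], [(11,
      1), (21, 1), (40, 1)], [(0, 1), (4, 1), (22, 1)], [(27, 1)], [(30, 1)], [(34, 1)], [(38, 1)], [(9,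
      1), (35, 1), (41, 1)], [(0, 1), (2, 1), (3, 1), (4, 1), (5, 1), (12, 1)], [(23, 1), (43, 1), (62,
      1)], [(2, 1), (5, 1), (10, 1)], [(13, 1), (42, 1), (48, 1)], [(24, 1), (44, 1), (63, 1)], [(6, 1),
      (16, 1), (26, 1), (28, 1), (47, 1), (50, 1), (64, 1)], [(7, 1), (19, 1), (33, 1), (36, 1), (55, 1),
      (57, 1), (67, 1)], [], [], [], [], [], [], [], [], [], [], [], [], [], [], [], [], [], [], [], [],
      [], [], [], [], [], [], [], [], [], [], [], [], [], [], [], [], [], [], [], []]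
  rowOp :=
    Trie.ofRows [[(0, 1)], [(1, 1)], [(2, 1)], [(16, 1)], [(19, 1)], [(20, 1)], [(21, 1)], [(35, 1)],
      [(42, 1)], [(43, 1)], [(44, 1)], [(45, 1)], [(46, 1)], [(47, 1)], [(49, 1)], [(50, 1)], [(51, 1)],
      [(53, 1)], [(54, 1)], [(55, 1)], [(56, 1)], [(57, 1)], [(58, 1)], [(59, 1)], [(60, 1)], [(61, 1)],
      [(65, 1)], [(66, 1)], [(68, 1)], [(69, 1)], [(70, 1)], [(71, 1)], [(72, 1)], [(73, 1)], [(74, 1)],
      [(75, 1)], [(76, 1)], [(77, 1)], [], [], [], [], [], [], [], [], [], [], [], [], [], [], [], [], [],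
      [], [], [], [], [], [], [], [], [], [], [], [], [], [], [], [], [], [], [], [], [], [], []]
  colOp :=
    Trie.ofRows [[], [], [], [(1, 1), (25, 1), (31, 1), (33, 1)], [(0, 1), (1, 1), (25, 1)], [(1, 1), (2,
      1), (33, 1)], [(3, 1)], [(4, 1)], [(5, 1)], [(7, 1)], [(1, 1), (2, 1)], [(6, 1)], [(0, 1), (1, 1),
      (2, 1)], [(8, 1)], [(11, 1)], [(14, 1)], [], [(17, 1)], [(20, 1)], [], [], [], [(0, 1), (1, 1)],
      [(9, 1)], [(10, 1)], [(12, 1)], [(3, 1), (13, 1)], [(26, 1)], [(3, 1), (15, 1)], [(16, 1)], [(27,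
      1)], [], [(18, 1)], [(4, 1), (19, 1)], [(28, 1)], [], [(4, 1), (21, 1)], [(22, 1)], [(29, 1)], [(5,
      1), (23, 1)], [(6, 1), (24, 1)], [(7, 1), (30, 1)], [], [], [], [], [], [], [(8, 1), (34, 1)], [],
      [], [], [], [], [], [], [], [], [], [], [], [], [(9, 1), (32, 1)], [(10, 1), (35, 1)], [(3, 1), (13,
      1), (15, 1), (36, 1)], [], [], [(4, 1), (19, 1), (21, 1), (37, 1)], [], [], [], [], [], [], [], [],
      [], []]

theorem prod2_ok : chkProd chevE6 [55, 65, 67] = true := by decide +kernel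

theorem rank2_ok : chkRank (6 + 72) 38 (dMat chevE6 [55, 65, 67]) cert2 = true := by decide +kernel

end CfsgLib.UniInvol.E6
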