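import Cfsg.Agent.UniInvol.Classes
import Cfsg.Agent.UniInvol.CheckE6
import Cfsg.Agent.UniInvol.RankE6
import Cfsg.Agent.Chevalley.WeylData
import Cfsg.Agent.Weyl.RootE6

/-!
# The classes of involutions of `E6` in characteristic two
-/

set_option autoImplicit false

namespace CfsgLib.UniInvol.E6

open Cfsg.Lie CfsgLib.Chevalley

variable {F : Type*} [Field F]

theorem hW : GoodWeyl chevE6 := goodWeyl_of_mem (by simp)

theorem coe_pat : ∀ L : List ℕ, (∀ k ∈ L, k < chevE6.nroots) →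
    (pat F hW L : Matrix chevE6.Idx chevE6.Idx F) = (L.map fun k => chevE6.x F k 1).prod
  | [], _ => by simp
  | k :: L, h => by
    have hk := h k (by simp)
    rw [pat_cons, Units.val_mul, List.map_cons, List.prod_cons, coe_pat L fun j hj => h j (by simp [hj]),
      xk, dif_pos hk, coe_X, ← x_eq_xR hW.good F ⟨k, hk⟩]

variable [CharP F 2]

/-- The representatives as printed. -/
def repMats (F : Type*) [Field F] : List (Matrix chevE6.Idx chevE6.Idx F) :=
  [chevE6.x F 71 1, 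
    chevE6.x F 68 1 * chevE6.x F 66 1, 
    chevE6.x F 55 1 * chevE6.x F 65 1 * chevE6.x F 67 1]

theorem coe_pat0 :
    (pat F hW [71] : Matrix chevE6.Idx chevE6.Idx F) = chevE6.x F 71 1 := by
  rw [coe_pat _ (by decide +kernel)]
  simp [mul_assoc]

theorem orderOf_pat0 : orderOf (pat F hW [71]) = 2 :=
  orderOf_pat tbl_ok (by decide +kernel) prod0_ok (r := 21) rank0_ok

theorem coe_pat1 :
    (pat F hW [66, 68] : Matrix chevE6.Idx chevE6.Idx F) = chevE6.x F 68 1 * chevE6.x F 66 1 := by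
  rw [pat_eq_of_chkEq (T := tbl) tbl_ok (L' := [68, 66]) (by decide +kernel), coe_pat _ (by decide +kernel)]
  simp

theorem orderOf_pat1 : orderOf (pat F hW [66, 68]) = 2 :=
  orderOf_pat tbl_ok (by decide +kernel) prod1_ok (r := 31) rank1_ok

theorem coe_pat2 :
    (pat F hW [55, 65, 67] : Matrix chevE6.Idx chevE6.Idx F) = chevE6.x F 55 1 * chevE6.x F 65 1 * chevE6.x F 67 1 := by
  rw [coe_pat _ (by decide +kernel)]
  simp [mul_assoc]

theorem orderOf_pat2 : orderOf (pat F hW [55, 65, 67]) = 2 :=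
  orderOf_pat tbl_ok (by decide +kernel) prod2_ok (r := 37) rank2_ok

theorem mem_repMats_iff {y : GL chevE6.Idx F} :
    (y : Matrix chevE6.Idx chevE6.Idx F) ∈ repMats F ↔ ∃ L ∈ reps, y = pat F hW L := by
  simp only [repMats, reps, List.mem_cons, List.not_mem_nil, or_false, or_and_right, exists_or,
    exists_eq_left, ← coe_pat0, ← coe_pat1, ← coe_pat2, ← Units.ext_iff]

theorem mem_group_and_orderOf {y : GL chevE6.Idx F}
    (h : (y : Matrix chevE6.Idx chevE6.Idx F) ∈ repMats F) : y ∈ chevE6.group F ∧ orderOf y = 2 := by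
  obtain ⟨L, hL, rfl⟩ := mem_repMats_iff.1 h
  refine ⟨pat_mem_group L, ?_⟩
  simp only [reps, List.mem_cons, List.not_mem_nil, or_false] at hL
  rcases hL with rfl | rfl | rfl
  · exact orderOf_pat0
  · exact orderOf_pat1
  · exact orderOf_pat2

theorem exists_conj_mem_repMats [Fintype F] {g : GL chevE6.Idx F} (hg : g ∈ chevE6.group F)
    (h2 : orderOf g = 2) : ∃ y ∈ chevE6.group F, (y : Matrix chevE6.Idx chevE6.Idx F) ∈ repMats F ∧
      ∃ h ∈ chevE6.group F, h * g * h⁻¹ = y := by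
  obtain ⟨h, hh, L, hL, e⟩ := exists_conj_pat (hW := hW) Weyl.rootE6_good tbl_ok table_ok hg h2
  exact ⟨_, pat_mem_group L, mem_repMats_iff.2 ⟨L, hL, rfl⟩, h, hh, e⟩

theorem eq_of_conj {y₁ y₂ : GL chevE6.Idx F}
    (h₁ : (y₁ : Matrix chevE6.Idx chevE6.Idx F) ∈ repMats F)
    (h₂ : (y₂ : Matrix chevE6.Idx chevE6.Idx F) ∈ repMats F)
    {h : GL chevE6.Idx F} (hh : h ∈ chevE6.group F) (e : h * y₁ * h⁻¹ = y₂) : y₁ = y₂ := by
  obtain ⟨L₁, hL₁, rfl⟩ := mem_repMats_iff.1 h₁
  obtain ⟨L₂, hL₂, rfl⟩ := mem_repMats_iff.1 h₂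
  have hr := rank_sub_one_conj h (pat F hW L₁)
  rw [e] at hr
  have r0 := rank_pat (hW := hW) (F := F) prod0_ok rank0_ok
  have r1 := rank_pat (hW := hW) (F := F) prod1_ok rank1_ok
  have r2 := rank_pat (hW := hW) (F := F) prod2_ok rank2_ok
  simp only [reps, List.mem_cons, List.not_mem_nil, or_false] at hL₁ hL₂
  rcases hL₁ with rfl | rfl | rfl <;> rcases hL₂ with rfl | rfl | rfl <;>
    first
    | rfl
    | (exfalso; omega)

end CfsgLib.UniInvol.E6
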