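import Cfsg.Agent.Chevalley.Checks
import Cfsg.Prelude.Def_ChevStructure

/-!
# A calculus for involutions of a unipotent group in characteristic two

Words in positive root elements whose parameters are sums of Laurent monomials over the field with two
elements are collected modulo a term of the series.  A `Tree` follows the coordinates of an involution
from the least root on: a coordinate is zero, can be cleared by a conjugation, or joins the pattern.
Everything here is evaluated by the kernel.
-/

set_option autoImplicit false

namespace CfsgLib.UniInvol

open Cfsg.Lie CfsgLib.Chevalley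

/-- A Laurent monomial, by its exponents. -/
abbrev Mono := List ℤ

/-- A sum of monomials. -/
abbrev Poly := List Mono

/-- A word in root elements. -/
abbrev Word := List (ℕ × Poly)

/-- Product of monomials. -/
def madd : Mono → Mono → Mono
  | [], b => b
  | x :: a, [] => x :: a
  | x :: a, y :: b => (x + y) :: madd a b

/-- A power of a monomial. -/
def msmul (c : ℤ) : Mono → Mono
  | [] => []
  | x :: a => c * x :: msmul c a

/-- Adding a monomial modulo two. -/
def toggle (m : Mono) : Poly → Poly
  | [] => [m]
  | x :: l => bif decide (m = x) then l else x :: toggle m l

/-- Sum. -/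
def padd (p q : Poly) : Poly := p.foldr toggle q

/-- Product. -/
def pmul : Poly → Poly → Poly
  | [], _ => []
  | a :: p, q => (q.map (madd a)).foldr toggle (pmul p q)

/-- Power. -/
def ppow (p : Poly) : ℕ → Poly
  | 0 => [[]]
  | n + 1 => pmul p (ppow p n)

/-- The tables read from a Chevalley datum. -/
structure Tbl where
  /-- commutator terms with odd coefficient -/
  comm : Trie (ℕ × List (ℕ × ℕ × ℕ))
  /-- fundamental reflections -/
  refl : List (List ℕ)
  /-- Cartan integers -/
  cart : List (List ℤ)

/-- The terms of the commutator of two roots. -/
def Tbl.terms (T : Tbl) (r s : ℕ) : List (ℕ × ℕ × ℕ) :=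
  match (T.comm.get r).find? (fun e => e.1 == s) with
  | some e => e.2
  | none => []

/-- The image of a root under a fundamental reflection. -/
def Tbl.reflAt (T : Tbl) (i k : ℕ) : ℕ := (T.refl.getD i []).getD k 0

/-- A Cartan integer. -/
def Tbl.cartAt (T : Tbl) (i k : ℕ) : ℤ := (T.cart.getD i []).getD k 0

/-- The odd terms of the commutator formula. -/
def oddTerms (D : ChevalleyDatum) (r s : ℕ) : List (ℕ × ℕ × ℕ) :=
  (D.commTerms r s).filterMap fun c =>
    bif decide (c.2.1 % 2 = 0) then none else some (c.1, c.2.2.1, c.2.2.2)

/-- The tables agree with the datum. -/
def chkTbl (D : ChevalleyDatum) (T : Tbl) : Bool :=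
  ((List.range' (half D) (D.nroots - half D)).all fun r =>
    (List.range' (half D) (D.nroots - half D)).all fun s =>
      decide (r = s) || decide (T.terms r s = oddTerms D r s)) &&
  (List.range D.rank).all fun i => (List.range D.nroots).all fun k =>
    decide (T.reflAt i k = D.reflectRoot i k) && decide (T.cartAt i k = D.cartan i k)

/-- Collection below `top`. -/
def coll (T : Tbl) (top : ℕ) : ℕ → Word → Word → Option Word
  | 0, _, _ => none
  | _ + 1, acc, [] => some acc.reverse
  | f + 1, acc, (b, q) :: rest =>
    bif q.isEmpty || decide (top ≤ b) then coll T top f acc rest else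
    match acc with
    | [] => coll T top f [(b, q)] rest
    | (a, p) :: acc' =>
      bif decide (a < b) then coll T top f ((b, q) :: (a, p) :: acc') rest
      else bif decide (a = b) then coll T top f acc' ((b, padd p q) :: rest)
      else coll T top f acc'
        ((b, q) :: (a, p) :: ((T.terms b a).map fun c => (c.1, pmul (ppow q c.2.1) (ppow p c.2.2))) ++ rest)

/-- Collection with enough fuel. -/
def collect (T : Tbl) (top : ℕ) (w : Word) : Option Word := coll T top 100000 [] w

/-- Conjugations used in the certificates. -/
inductive Mv where
  /-- by a root element with monomial parameter -/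
  | x (j : ℕ) (e : Mono)
  /-- by a fundamental torus element -/
  | h (i : ℕ) (e : Mono)
  /-- by a fundamental reflection element -/
  | n (i : ℕ)

/-- The effect of a conjugation on a word below `m`. -/
def step (D : ChevalleyDatum) (T : Tbl) (m : ℕ) (w : Word) : Mv → Option Word
  | .x j e =>
    bif decide (half D ≤ j) && decide (j < D.nroots) then collect T m ((j, [e]) :: w ++ [(j, [e])])
    else none
  | .h i e =>
    bif decide (i < D.rank) then
      some (w.map fun l => (l.1, l.2.map (madd (msmul (T.cartAt i l.1) e))))
    else none
  | .n i =>
    bif decide (i < D.rank) && (w.all fun l => decide (half D ≤ T.reflAt i l.1)) &&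
        (List.range' m (D.nroots - m)).all (fun k => decide (m ≤ T.reflAt i k)) then
      collect T m (w.map fun l => (T.reflAt i l.1, l.2))
    else none

/-- A sequence of conjugations. -/
def run (D : ChevalleyDatum) (T : Tbl) (m : ℕ) : Word → List Mv → Option Word
  | w, [] => some w
  | w, mv :: mvs =>
    match step D T m w mv with
    | some w' => run D T m w' mvs
    | none => none

/-- The exponents of the fourth power of one variable. -/
def unitMono : ℕ → ℕ → Mono
  | 0, _ => []
  | nv + 1, 0 => 4 :: List.replicate nv 0
  | nv + 1, i + 1 => 0 :: unitMono nv i

/-- A pattern with variables from `i` on. -/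
def initFrom (nv : ℕ) : ℕ → List ℕ → Word
  | _, [] => []
  | i, k :: P => (k, [unitMono nv i]) :: initFrom nv (i + 1) P

/-- A pattern as a word. -/
def initWord (nv : ℕ) (P : List ℕ) : Word := initFrom nv 0 P

/-- The roots of a word with single monomials. -/
def singles : Word → Option (List (ℕ × Mono))
  | [] => some []
  | (k, [e]) :: w => (singles w).map ((k, e) :: ·)
  | _ :: _ => none

/-- The search below one pattern. -/
inductive Tree where
  /-- the square has a single monomial in front below `L` -/
  | bad (L : ℕ)
  /-- the trivial element -/
  | triv
  /-- zero coordinate, nonzero coordinate -/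
  | split (z nz : Tree)
  /-- a nonzero coordinate can be cleared -/
  | kill (mv : List Mv) (z : Tree)
  /-- conjugate to a later pattern of the table -/
  | goto (mv : List Mv) (idx : ℕ)
  /-- conjugate to a representative -/
  | fin (mv : List Mv) (idx : ℕ)

/-- A square which is not trivial. -/
def chkBad (T : Tbl) (P : List ℕ) (L : ℕ) : Bool :=
  match collect T L (initWord P.length P ++ initWord P.length P) with
  | some ((k, [_]) :: rest) => decide (k < L) && rest.all fun l => decide (k < l.1)
  | _ => false

/-- A tree is valid at a pattern. -/
def chkTree (D : ChevalleyDatum) (T : Tbl) (reps : List (List ℕ)) (tab : List (List ℕ × ℕ)) :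
    Tree → List ℕ → ℕ → Bool
  | .bad L, P, m => decide (L ≤ m) && chkBad T P L
  | .triv, P, m => P.isEmpty && decide (m = D.nroots)
  | .split z nz, P, m =>
    decide (m < D.nroots) && chkTree D T reps tab z P (m + 1) && chkTree D T reps tab nz (P ++ [m]) (m + 1)
  | .kill mv z, P, m =>
    decide (m < D.nroots) && chkTree D T reps tab z P (m + 1) &&
      decide (run D T (m + 1) (initWord (P.length + 1) (P ++ [m])) mv = some (initWord (P.length + 1) P))
  | .goto mv idx, P, m =>
    match run D T m (initWord P.length P) mv with
    | some w =>
      match singles w, tab[idx]? with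
      | some l, some e => decide (l.map Prod.fst = e.1) && decide (e.2 = m)
      | _, _ => false
    | none => false
  | .fin mv idx, P, m =>
    decide (m = D.nroots) &&
    match run D T m (initWord P.length P) mv with
    | some w =>
      match singles w, reps[idx]? with
      | some l, some R => decide (l.map Prod.fst = R) && l.all fun e => e.2.all (fun c => decide (c = 0))
      | _, _ => false
    | none => false

/-- A table of patterns with trees referring only to later entries. -/
def chkTable (D : ChevalleyDatum) (T : Tbl) (reps : List (List ℕ)) :
    List (List ℕ × ℕ × Tree) → Bool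
  | [] => true
  | (P, m, t) :: rest =>
    decide (half D ≤ m) && decide (m ≤ D.nroots) &&
      (P.all fun k => decide (half D ≤ k) && decide (k < D.nroots)) &&
      chkTree D T reps (rest.map fun e => (e.1, e.2.1)) t P m && chkTable D T reps rest

end CfsgLib.UniInvol
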