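import Cfsg.Agent.Chevalley.Element
import Mathlib.LinearAlgebra.Matrix.Rank
import Mathlib.Algebra.CharP.Two

/-!
# Ranks of `y - 1` in characteristic two, certified by sparse matrices
-/

set_option autoImplicit false

namespace CfsgLib.UniInvol

open Cfsg.Lie CfsgLib.Chevalley

/-- The columns in which a row is odd, as a bit mask. -/
def rowMask : List (ℕ × ℤ) → ℕ
  | [] => 0
  | p :: L => Nat.xor (bif decide (p.2 % 2 = 0) then 0 else 1 <<< p.1) (rowMask L)

theorem testBit_rowMask (c : ℕ) : ∀ L : List (ℕ × ℤ), (rowMask L).testBit c = decide (rowVal L c % 2 = 1)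
  | [] => by simp [rowMask]
  | p :: L => by
    rw [rowMask, rowVal_cons]
    show Nat.testBit (_ ^^^ _) c = _
    rw [Nat.testBit_xor, testBit_rowMask c L]
    by_cases hp : p.2 % 2 = 0 <;> by_cases hc : p.1 = c <;>
      simp [hp, hc, Nat.one_shiftLeft, Nat.testBit_two_pow] <;>
      (first | omega | (by_cases hv : rowVal L c % 2 = 1 <;> simp [hv] <;> omega))

/-- Equality modulo two on the first `N` rows. -/
def eqTwo (N : ℕ) (A B : SMat) : Bool :=
  (List.range N).all fun i => rowMask (A.get i) == rowMask (B.get i)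

section Field

variable {F : Type*} [Field F] {l n : ℕ}

/-- A sparse matrix over a ring. -/
def matOf (F : Type*) [Field F] (l n : ℕ) (A : SMat) : Matrix (Fin l ⊕ Fin n) (Fin l ⊕ Fin n) F :=
  (SMat.toMat l n A).map (Int.castRingHom F)

theorem matOf_mul {A : SMat} (hA : SMat.bounded (l + n) A = true) (B : SMat) :
    matOf F l n (SMat.mul A B) = matOf F l n A * matOf F l n B := by
  rw [matOf, SMat.toMat_mul hA, Matrix.map_mul]
  rfl

theorem matOf_add (A B : SMat) : matOf F l n (Trie.add A B) = matOf F l n A + matOf F l n B := by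
  rw [matOf, SMat.toMat_add, Matrix.map_add _ (map_add _)]
  rfl

theorem matOf_eq_of_eqTwo [CharP F 2] {A B : SMat} (h : eqTwo (l + n) A B = true) :
    matOf F l n A = matOf F l n B := by
  ext a b
  simp only [matOf, Matrix.map_apply, SMat.toMat_apply, SMat.den, eq_intCast]
  have h1 := List.all_eq_true.1 h _ (List.mem_range.2 (finSumFinEquiv a).2)
  have h2 := congrArg (fun m => Nat.testBit m (finSumFinEquiv b : ℕ)) (beq_iff_eq.1 h1)
  simp only [testBit_rowMask, decide_eq_decide] at h2
  have cast : ∀ c : ℤ, (c : F) = if c % 2 = 1 then 1 else 0 := by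
    intro c
    rcases Int.even_or_odd c with ⟨k, rfl⟩ | ⟨k, rfl⟩
    · rw [if_neg (by omega)]; push_cast; exact CharTwo.add_self_eq_zero _
    · rw [if_pos (by omega)]; push_cast
      rw [show (2 : F) = 0 from CharTwo.two_eq_zero, zero_mul, zero_add]
  rw [cast, cast]
  simp only [h2]

/-- The identity on the first `r` coordinates. -/
def unitTo (r : ℕ) : SMat := SMat.ofEntries ((List.range r).map fun j => (j, j, 1))

theorem matOf_unitTo (r : ℕ) :
    matOf F l n (unitTo r) =
      Matrix.diagonal fun a => if (finSumFinEquiv a : ℕ) < r then (1 : F) else 0 := by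
  ext a b
  have hden : ∀ i j : ℕ, SMat.den (unitTo r) i j = if i = j ∧ i < r then 1 else 0 := by
    intro i j
    rw [unitTo, SMat.den_ofEntries, List.filter_map, List.map_map]
    induction r with
    | zero => simp
    | succ r ih =>
      rw [List.range_succ, List.filter_append, List.map_append, List.sum_append, ih]
      by_cases h1 : r = i
      · by_cases h2 : r = j
        · subst h1; subst h2; simp
        · subst h1; simp [h2]
      · have h4 : (i = j ∧ i < r + 1) ↔ (i = j ∧ i < r) :=
          ⟨fun h => ⟨h.1, by omega⟩, fun h => ⟨h.1, by omega⟩⟩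
        rw [if_congr h4 rfl rfl]
        simp [h1]
  rw [matOf, Matrix.map_apply, SMat.toMat_apply, hden, eq_intCast, Matrix.diagonal_apply]
  by_cases h : a = b
  · subst h; simp
  · rw [if_neg h, if_neg (fun h' => h (finSumFinEquiv.injective (Fin.ext h'.1)))]
    simp

theorem rank_unitTo {r : ℕ} (hr : r ≤ l + n) : (matOf F l n (unitTo r)).rank = r := by
  classical
  rw [matOf_unitTo, Matrix.rank_diagonal]
  simp only [ne_eq, ite_eq_right_iff, one_ne_zero, imp_false, not_not]
  refine (Fintype.card_congr ?_).trans (Fintype.card_fin r)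
  exact
    { toFun := fun a => ⟨(finSumFinEquiv a.1 : ℕ), a.2⟩
      invFun := fun j => ⟨finSumFinEquiv.symm ⟨j, lt_of_lt_of_le j.2 hr⟩, by simp⟩
      left_inv := fun a => by ext1; simp
      right_inv := fun j => by ext; simp }

/-- Certificate that the rank modulo two is `r`. -/
structure RankCert where
  /-- left factor -/
  left : SMat
  /-- right factor -/
  right : SMat
  /-- row operation -/
  rowOp : SMat
  /-- column operation -/
  colOp : SMat

/-- The certificate is valid. -/
def chkRank (N r : ℕ) (A : SMat) (c : RankCert) : Bool :=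
  decide (r ≤ N) && SMat.bounded N c.left && SMat.bounded N (unitTo r) && SMat.bounded N A &&
    SMat.bounded N c.rowOp && eqTwo N A (SMat.mul c.left (SMat.mul (unitTo r) c.right)) &&
    eqTwo N (SMat.mul c.rowOp (SMat.mul A c.colOp)) (unitTo r)

theorem rank_eq_of_chk [CharP F 2] {r : ℕ} {A : SMat} {c : RankCert}
    (h : chkRank (l + n) r A c = true) : (matOf F l n A).rank = r := by
  simp only [chkRank, Bool.and_eq_true, decide_eq_true_eq] at h
  obtain ⟨⟨⟨⟨⟨⟨hr, hL⟩, hU⟩, hA⟩, hP⟩, h1⟩, h2⟩ := h
  refine le_antisymm ?_ ?_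
  · rw [matOf_eq_of_eqTwo h1, matOf_mul hL, matOf_mul hU]
    exact ((Matrix.rank_mul_le_right _ _).trans (Matrix.rank_mul_le_left _ _)).trans (rank_unitTo hr).le
  · refine (rank_unitTo (F := F) hr).ge.trans ?_
    rw [← matOf_eq_of_eqTwo h2, matOf_mul hP, matOf_mul hA]
    exact (Matrix.rank_mul_le_right _ _).trans (Matrix.rank_mul_le_left _ _)

end Field

/-! ### Products of root elements with parameter one -/

/-- The root element with parameter one. -/
def xOne (D : ChevalleyDatum) (r : ℕ) : SMat :=
  Trie.add (unitTo (D.rank + D.nroots)) (Trie.add (eMat D r 1) (Trie.add (eMat D r 2) (eMat D r 3)))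

/-- The product. -/
def yMat (D : ChevalleyDatum) : List ℕ → SMat
  | [] => unitTo (D.rank + D.nroots)
  | r :: L => SMat.mul (xOne D r) (yMat D L)

/-- The product minus one. -/
def dMat (D : ChevalleyDatum) (L : List ℕ) : SMat := Trie.add (yMat D L) (unitTo (D.rank + D.nroots))

/-- All root indices are valid and the factors bounded. -/
def chkProd (D : ChevalleyDatum) (L : List ℕ) : Bool :=
  L.all fun r => decide (r < D.nroots) && SMat.bounded (D.rank + D.nroots) (xOne D r)

variable {D : ChevalleyDatum} {F : Type*} [Field F]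

theorem matOf_one : matOf F D.rank D.nroots (unitTo (D.rank + D.nroots)) = 1 := by
  rw [matOf_unitTo, ← Matrix.diagonal_one]
  congr 1
  funext a
  rw [if_pos (Fin.is_lt _)]

theorem matOf_xOne (hD : Good D) (r : Root D) :
    matOf F D.rank D.nroots (xOne D r) = (X hD r (1 : F) : GL D.Idx F) := by
  rw [coe_X, xOne, matOf_add, matOf_add, matOf_add, matOf_one, xR]
  simp only [Finset.sum_range_succ, Finset.sum_range_zero, zero_add, one_pow, one_smul, E_zero,
    E_pos r (by omega : (1 : ℕ) ≠ 0), E_pos r (by omega : (2 : ℕ) ≠ 0), E_pos r (by omega : (3 : ℕ) ≠ 0)]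
  rw [Matrix.map_one _ Int.cast_zero Int.cast_one]
  simp only [← add_assoc]
  rfl

end CfsgLib.UniInvol
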