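import Cfsg.Agent.UniInvol.Table
import Cfsg.Agent.UniInvol.Rank
import Cfsg.Agent.ChevInvol.Bruhat
import Cfsg.Agent.ChevInvol.RootPairs
import Cfsg.Agent.ChevParabolic.Sylow

/-!
# Classes of involutions from a checked table
-/

set_option autoImplicit false
set_option linter.unusedSectionVars false

namespace CfsgLib.UniInvol

open Cfsg.Lie CfsgLib.Chevalley

variable {D : ChevalleyDatum} {F : Type*} [Field F] {hW : GoodWeyl D} {T : Tbl}

variable (hW F) in
/-- The product of root elements with parameter one. -/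
def pat (L : List ℕ) : GL D.Idx F := patFrom hW (fun _ => (1 : F)) 0 L

theorem pat_cons (k : ℕ) (L : List ℕ) : pat F hW (k :: L) = xk hW k (1 : F) * pat F hW L := by
  show xk hW k (1 : F) * patFrom hW (fun _ => (1 : F)) 1 L = _
  congr 1
  have : ∀ (L : List ℕ) (i : ℕ), patFrom hW (fun _ => (1 : F)) i L = patFrom hW (fun _ => (1 : F)) 0 L := by
    intro L
    induction L with
    | nil => intro i; rfl
    | cons a L ih => intro i; simp only [patFrom]; rw [ih (i + 1), ← ih (0 + 1)]
  exact this L 1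

@[simp] theorem pat_nil : pat F hW [] = 1 := rfl

theorem pat_mem_group : ∀ L : List ℕ, pat F hW L ∈ D.group F
  | [] => by rw [pat_nil]; exact one_mem _
  | k :: L => by rw [pat_cons]; exact mul_mem (xk_mem_group _ _) (pat_mem_group L)

/-- The word of `pat`. -/
def oneWord (L : List ℕ) : Word := L.map fun k => (k, [[]])

theorem evW_oneWord (v : ℕ → F) : ∀ L : List ℕ, evW hW v (oneWord L) = pat F hW L
  | [] => by simp [oneWord]
  | k :: L => by
    rw [pat_cons, ← evW_oneWord v L]
    show evW hW v ((k, [[]]) :: oneWord L) = _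
    rw [evW_cons, evP_single]
    rfl

theorem ok_oneWord {L : List ℕ} (h : (L.all fun k => decide (half D ≤ k) && decide (k < D.nroots)) = true) :
    Ok D (oneWord L) := by
  intro l hl
  obtain ⟨k, hk, rfl⟩ := List.mem_map.1 hl
  simpa using List.all_eq_true.1 h k hk

/-- Two products collect to the same word. -/
def chkEq (D : ChevalleyDatum) (T : Tbl) (L L' : List ℕ) : Bool :=
  ((L ++ L').all fun k => decide (half D ≤ k) && decide (k < D.nroots)) &&
  match collect T D.nroots (oneWord L), collect T D.nroots (oneWord L') with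
  | some w, some w' => decide (w = w')
  | _, _ => false

section CharTwo

variable [CharP F 2]

theorem pat_eq_of_chkEq (hTb : chkTbl D T = true) {L L' : List ℕ} (h : chkEq D T L L' = true) :
    pat F hW L = pat F hW L' := by
  simp only [chkEq, List.all_append, Bool.and_eq_true] at h
  obtain ⟨⟨hL, hL'⟩, h⟩ := h
  have hv : ∀ i : ℕ, (1 : F) ≠ 0 := fun _ => one_ne_zero
  split at h
  swap
  · simp at h
  next w w' h1 h2 =>
    rw [decide_eq_true_eq] at h
    subst h
    obtain ⟨-, r1⟩ := collect_spec (hW := hW) (v := fun _ => (1 : F)) hv hTb (ok_oneWord hL) h1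
    obtain ⟨-, r2⟩ := collect_spec (hW := hW) (v := fun _ => (1 : F)) hv hTb (ok_oneWord hL') h2
    rw [evW_oneWord] at r1 r2
    exact (r1.trans r2.symm).eq_of_top

theorem pat_append (L L' : List ℕ) : pat F hW (L ++ L') = pat F hW L * pat F hW L' := by
  induction L with
  | nil => simp
  | cons k L ih => rw [List.cons_append, pat_cons, pat_cons, ih, mul_assoc]

theorem pat_sq (hTb : chkTbl D T = true) {L : List ℕ} (h : chkEq D T (L ++ L) [] = true) :
    pat F hW L * pat F hW L = 1 := by
  rw [← pat_append, pat_eq_of_chkEq hTb h, pat_nil]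

theorem coe_sub_one_eq_matOf : ∀ L : List ℕ, chkProd D L = true →
    (pat F hW L : Matrix D.Idx D.Idx F) - 1 = matOf F D.rank D.nroots (dMat D L) := by
  have key : ∀ L : List ℕ, chkProd D L = true →
      (pat F hW L : Matrix D.Idx D.Idx F) = matOf F D.rank D.nroots (yMat D L) := by
    intro L
    induction L with
    | nil => intro _; rw [pat_nil, yMat, matOf_one]; rfl
    | cons k L ih =>
      intro h
      simp only [chkProd, List.all_cons, Bool.and_eq_true, decide_eq_true_eq] at h
      rw [pat_cons, Units.val_mul, ih h.2, yMat, matOf_mul h.1.2, xk, dif_pos h.1.1,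
        ← matOf_xOne hW.good ⟨k, h.1.1⟩]
  intro L h
  rw [key L h, dMat, matOf_add, matOf_one]
  ext a b
  simp [CharTwo.sub_eq_add]

theorem rank_pat {L : List ℕ} {r : ℕ} {c : RankCert} (hL : chkProd D L = true)
    (h : chkRank (D.rank + D.nroots) r (dMat D L) c = true) :
    ((pat F hW L : Matrix D.Idx D.Idx F) - 1).rank = r := by
  rw [coe_sub_one_eq_matOf L hL]
  exact rank_eq_of_chk h

theorem orderOf_pat (hTb : chkTbl D T = true) {L : List ℕ} (h : chkEq D T (L ++ L) [] = true) {r : ℕ}
    {c : RankCert} (hL : chkProd D L = true) (hr : chkRank (D.rank + D.nroots) (r + 1) (dMat D L) c = true) :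
    orderOf (pat F hW L) = 2 := by
  refine orderOf_eq_prime (by rw [pow_two]; exact pat_sq hTb h) fun e => ?_
  have := rank_pat (hW := hW) (F := F) hL hr
  rw [e, Units.val_one, sub_self, Matrix.rank_zero] at this
  omega

end CharTwo

theorem rank_sub_one_conj (h g : GL D.Idx F) :
    (((h * g * h⁻¹ : GL D.Idx F) : Matrix D.Idx D.Idx F) - 1).rank =
      ((g : Matrix D.Idx D.Idx F) - 1).rank := by
  have e : ((h * g * h⁻¹ : GL D.Idx F) : Matrix D.Idx D.Idx F) - 1 =
      (h : Matrix D.Idx D.Idx F) * ((g : Matrix D.Idx D.Idx F) - 1) * (h⁻¹ : GL D.Idx F) := by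
    rw [mul_sub, sub_mul, mul_one, ← Units.val_mul, ← Units.val_mul, ← Units.val_mul, mul_inv_cancel,
      Units.val_one]
  rw [e, Matrix.rank_mul_eq_left_of_isUnit_det _ _
    ((Matrix.isUnit_iff_isUnit_det _).1 (h⁻¹).isUnit),
    Matrix.rank_mul_eq_right_of_isUnit_det _ _ ((Matrix.isUnit_iff_isUnit_det _).1 h.isUnit)]

variable {C : Weyl.Cert D.rank} {M : CoxeterMatrix (Fin D.rank)} {R : Weyl.RootTable}

/-- Every involution of the group is conjugate to a representative. -/
theorem exists_conj_pat [Fintype F] [CharP F 2] (hRG : Weyl.RootGood C M R) (hTb : chkTbl D T = true)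
    {reps : List (List ℕ)} {t : Tree} {rest : List (List ℕ × ℕ × Tree)}
    (htab : chkTable D T reps (([], half D, t) :: rest) = true)
    {g : GL D.Idx F} (hg : g ∈ D.group F) (h2 : orderOf g = 2) :
    ∃ h ∈ D.group F, ∃ L ∈ reps, h * g * h⁻¹ = pat F hW L := by
  obtain ⟨k, hk, hu⟩ := ChevParabolic.exists_conj_mem_pos hW hRG 2 hg
    (k := 1) (by rw [pow_one, ← h2, pow_orderOf_eq_one])
  have hsq : g * g = 1 := by rw [← pow_two, ← h2, pow_orderOf_eq_one]
  have hne : g ≠ 1 := fun e => by simp [e] at h2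
  rw [posUnipotent_eq hW.good] at hu
  refine Done.of_conj hk (exists_conj_rep hTb htab hu ?_ fun e => hne (conj_eq_one_iff.1 e))
  rw [show k * g * k⁻¹ * (k * g * k⁻¹) = k * (g * g) * k⁻¹ by group, hsq, mul_one, mul_inv_cancel]

/-- The extreme root element is not conjugate to a root element outside its Weyl class. -/
theorem not_conj_top (hRG : Weyl.RootGood C M R) {P : ℕ → Bool}
    (hP : ∀ (i : Fin D.rank) (r : Root D), P r = true → P (D.reflectRoot i r) = true)
    {a b : Root D} (ha : half D ≤ (a : ℕ)) (htop : D.nroots ≤ (a : ℕ) + 1) (haP : P a = true)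
    (hb : half D ≤ (b : ℕ)) (hbP : P b = false) {g : GL D.Idx F} (hg : g ∈ D.group F) :
    g * X hW.good a (1 : F) * g⁻¹ ≠ X hW.good b 1 := by
  intro e
  obtain ⟨u, hu, y, hy, w, u', hu', rfl⟩ := ChevInvol.exists_bruhat hW hRG hg
  obtain ⟨c, hc⟩ := (monBy_nW (F := F) hW hRG w).conj_X a
  obtain ⟨d, hd⟩ := diag_conj_X hW hy (hRG.rootPerm w a)
  set s := hRG.rootPerm w a with hs
  have hcent : u'⁻¹ * X hW.good a (1 : F) * u' = X hW.good a 1 := by
    have := ChevParabolic.conj_pos_mod hW.toGoodComm ha (1 : F) hu'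
    rw [uGe_eq_bot _ (by omega), Subgroup.mem_bot, inv_mul_eq_one] at this
    exact this.symm
  have hcent' : u' * X hW.good a (1 : F) * u'⁻¹ = X hW.good a 1 := by
    calc u' * X hW.good a (1 : F) * u'⁻¹ = u' * (u'⁻¹ * X hW.good a (1 : F) * u') * u'⁻¹ := by rw [hcent]
      _ = X hW.good a 1 := by group
  have h1 : y * nW hW hRG F w * X hW.good a 1 * (y * nW hW hRG F w)⁻¹ =
      X hW.good s ((d : F) * ((c : F) * 1)) := by
    rw [show y * nW hW hRG F w * X hW.good a 1 * (y * nW hW hRG F w)⁻¹ =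
      y * (nW hW hRG F w * X hW.good a 1 * (nW hW hRG F w)⁻¹) * y⁻¹ by group]
    exact (congrArg (fun z => y * z * y⁻¹) (hc 1)).trans (hd _)
  have h2 : X hW.good s ((d : F) * ((c : F) * 1)) = u⁻¹ * X hW.good b 1 * u := by
    rw [← h1, ← e, show u⁻¹ * (u * y * nW hW hRG F w * u' * X hW.good a 1 *
        (u * y * nW hW hRG F w * u')⁻¹) * u =
      y * nW hW hRG F w * (u' * X hW.good a 1 * u'⁻¹) * (y * nW hW hRG F w)⁻¹ by group, hcent']
  set z := (X hW.good b 1)⁻¹ * (u⁻¹ * X hW.good b (1 : F) * u) with hz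
  have hzm : z ∈ uGe hW.good F false ((b : ℕ) + 1) := ChevParabolic.conj_pos_mod hW.toGoodComm hb 1 hu
  have h3 : X hW.good s ((d : F) * ((c : F) * 1)) = X hW.good b 1 * z := by
    rw [h2, hz, mul_inv_cancel_left]
  have hpos : half D ≤ (s : ℕ) := by
    refine key_of_X_mem (b := false) hW.toGoodUni (t := (d : F) * ((c : F) * 1)) (by simp)
      (m := half D) ?_
    rw [h3]
    exact mul_mem (X_mem_uGe (b := false) _ hb hb 1)
      (uGe_mono hW.good (show half D ≤ (b : ℕ) + 1 by omega) hzm)
  have h4 := (ChevParabolic.eq_of_X_mul hW.toGoodUni hb hpos (by simp) one_ne_zero hzm h3).1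
  have h5 := ChevInvol.rootPerm_mem_class hRG hP w a haP
  rw [← hs, h4, hbP] at h5
  exact Bool.noConfusion h5

end CfsgLib.UniInvol
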