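import Cfsg.Agent.UniInvol.Calc

/-!
# Certificates for the involutions of `E6` in characteristic two

Printed by a search program; checked by the kernel where used.
-/

set_option autoImplicit false

namespace CfsgLib.UniInvol.E6

open CfsgLib.Chevalley

/-- The commutator terms with odd coefficient. -/
def commRows : List (List (ℕ × List (ℕ × ℕ × ℕ))) :=
  [[], [], [], [], [], [], [], [], [], [], [], [], [], [], [], [], [], [], [], [], [], [], [], [], [], [],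
    [], [], [], [], [], [], [], [], [], [], [(37, [(38, 1, 1)]), (40, [(41, 1, 1)]), (44, [(45, 1, 1)]),
    (48, [(49, 1, 1)]), (51, [(52, 1, 1)]), (53, [(54, 1, 1)]), (59, [(60, 1, 1)]), (62, [(63, 1, 1)]),
    (64, [(65, 1, 1)]), (67, [(68, 1, 1)])], [(36, [(38, 1, 1)]), (39, [(40, 1, 1)]), (43, [(44, 1, 1)]),
    (47, [(48, 1, 1)]), (50, [(51, 1, 1)]), (54, [(55, 1, 1)]), (58, [(59, 1, 1)]), (61, [(62, 1, 1)]),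
    (65, [(66, 1, 1)]), (68, [(69, 1, 1)])], [(39, [(41, 1, 1)]), (43, [(45, 1, 1)]), (47, [(49, 1, 1)]),
    (50, [(52, 1, 1)]), (53, [(55, 1, 1)]), (58, [(60, 1, 1)]), (61, [(63, 1, 1)]), (64, [(66, 1, 1)]),
    (67, [(69, 1, 1)])], [(37, [(40, 1, 1)]), (38, [(41, 1, 1)]), (42, [(43, 1, 1)]), (46, [(47, 1, 1)]),
    (51, [(53, 1, 1)]), (52, [(54, 1, 1)]), (57, [(58, 1, 1)]), (62, [(64, 1, 1)]), (63, [(65, 1, 1)]),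
    (69, [(70, 1, 1)])], [(36, [(41, 1, 1)]), (42, [(44, 1, 1)]), (46, [(48, 1, 1)]), (50, [(53, 1, 1)]),
    (52, [(55, 1, 1)]), (57, [(59, 1, 1)]), (61, [(64, 1, 1)]), (63, [(66, 1, 1)]), (68, [(70, 1, 1)])],
    [(42, [(45, 1, 1)]), (46, [(49, 1, 1)]), (50, [(54, 1, 1)]), (51, [(55, 1, 1)]), (57, [(60, 1, 1)]),
    (61, [(65, 1, 1)]), (62, [(66, 1, 1)]), (67, [(70, 1, 1)])], [(39, [(43, 1, 1)]), (40, [(44, 1, 1)]),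
    (41, [(45, 1, 1)]), (47, [(50, 1, 1)]), (48, [(51, 1, 1)]), (49, [(52, 1, 1)]), (56, [(57, 1, 1)]),
    (64, [(67, 1, 1)]), (65, [(68, 1, 1)]), (66, [(69, 1, 1)])], [(37, [(44, 1, 1)]), (38, [(45, 1, 1)]),
    (46, [(50, 1, 1)]), (48, [(53, 1, 1)]), (49, [(54, 1, 1)]), (56, [(58, 1, 1)]), (62, [(67, 1, 1)]),
    (63, [(68, 1, 1)]), (66, [(70, 1, 1)])], [(36, [(45, 1, 1)]), (46, [(51, 1, 1)]), (47, [(53, 1, 1)]),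
    (49, [(55, 1, 1)]), (56, [(59, 1, 1)]), (61, [(67, 1, 1)]), (63, [(69, 1, 1)]), (65, [(70, 1, 1)])],
    [(46, [(52, 1, 1)]), (47, [(54, 1, 1)]), (48, [(55, 1, 1)]), (56, [(60, 1, 1)]), (61, [(68, 1, 1)]),
    (62, [(69, 1, 1)]), (64, [(70, 1, 1)])], [(39, [(47, 1, 1)]), (40, [(48, 1, 1)]), (41, [(49, 1, 1)]),
    (43, [(50, 1, 1)]), (44, [(51, 1, 1)]), (45, [(52, 1, 1)]), (58, [(61, 1, 1)]), (59, [(62, 1, 1)]),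
    (60, [(63, 1, 1)]), (70, [(71, 1, 1)])], [(37, [(48, 1, 1)]), (38, [(49, 1, 1)]), (42, [(50, 1, 1)]),
    (44, [(53, 1, 1)]), (45, [(54, 1, 1)]), (57, [(61, 1, 1)]), (59, [(64, 1, 1)]), (60, [(65, 1, 1)]),
    (69, [(71, 1, 1)])], [(36, [(49, 1, 1)]), (42, [(51, 1, 1)]), (43, [(53, 1, 1)]), (45, [(55, 1, 1)]),
    (57, [(62, 1, 1)]), (58, [(64, 1, 1)]), (60, [(66, 1, 1)]), (68, [(71, 1, 1)])], [(42, [(52, 1, 1)]),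
    (43, [(54, 1, 1)]), (44, [(55, 1, 1)]), (57, [(63, 1, 1)]), (58, [(65, 1, 1)]), (59, [(66, 1, 1)]),
    (67, [(71, 1, 1)])], [(37, [(51, 1, 1)]), (38, [(52, 1, 1)]), (40, [(53, 1, 1)]), (41, [(54, 1, 1)]),
    (56, [(61, 1, 1)]), (59, [(67, 1, 1)]), (60, [(68, 1, 1)]), (66, [(71, 1, 1)])], [(36, [(52, 1, 1)]),
    (39, [(53, 1, 1)]), (41, [(55, 1, 1)]), (56, [(62, 1, 1)]), (58, [(67, 1, 1)]), (60, [(69, 1, 1)]),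
    (65, [(71, 1, 1)])], [(39, [(54, 1, 1)]), (40, [(55, 1, 1)]), (56, [(63, 1, 1)]), (58, [(68, 1, 1)]),
    (59, [(69, 1, 1)]), (64, [(71, 1, 1)])], [(36, [(54, 1, 1)]), (38, [(55, 1, 1)]), (56, [(64, 1, 1)]),
    (57, [(67, 1, 1)]), (60, [(70, 1, 1)]), (63, [(71, 1, 1)])], [(37, [(55, 1, 1)]), (56, [(65, 1, 1)]),
    (57, [(68, 1, 1)]), (59, [(70, 1, 1)]), (62, [(71, 1, 1)])], [(56, [(66, 1, 1)]), (57, [(69, 1, 1)]),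
    (58, [(70, 1, 1)]), (61, [(71, 1, 1)])], [(42, [(57, 1, 1)]), (43, [(58, 1, 1)]), (44, [(59, 1, 1)]),
    (45, [(60, 1, 1)]), (50, [(61, 1, 1)]), (51, [(62, 1, 1)]), (52, [(63, 1, 1)]), (53, [(64, 1, 1)]),
    (54, [(65, 1, 1)]), (55, [(66, 1, 1)])], [(39, [(58, 1, 1)]), (40, [(59, 1, 1)]), (41, [(60, 1, 1)]),
    (47, [(61, 1, 1)]), (48, [(62, 1, 1)]), (49, [(63, 1, 1)]), (53, [(67, 1, 1)]), (54, [(68, 1, 1)]),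
    (55, [(69, 1, 1)])], [(37, [(59, 1, 1)]), (38, [(60, 1, 1)]), (46, [(61, 1, 1)]), (48, [(64, 1, 1)]),
    (49, [(65, 1, 1)]), (51, [(67, 1, 1)]), (52, [(68, 1, 1)]), (55, [(70, 1, 1)])], [(36, [(60, 1, 1)]),
    (46, [(62, 1, 1)]), (47, [(64, 1, 1)]), (49, [(66, 1, 1)]), (50, [(67, 1, 1)]), (52, [(69, 1, 1)]),
    (54, [(70, 1, 1)])], [(46, [(63, 1, 1)]), (47, [(65, 1, 1)]), (48, [(66, 1, 1)]), (50, [(68, 1, 1)]),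
    (51, [(69, 1, 1)]), (53, [(70, 1, 1)])], [(37, [(62, 1, 1)]), (38, [(63, 1, 1)]), (40, [(64, 1, 1)]),
    (41, [(65, 1, 1)]), (44, [(67, 1, 1)]), (45, [(68, 1, 1)]), (55, [(71, 1, 1)])], [(36, [(63, 1, 1)]),
    (39, [(64, 1, 1)]), (41, [(66, 1, 1)]), (43, [(67, 1, 1)]), (45, [(69, 1, 1)]), (54, [(71, 1, 1)])],
    [(39, [(65, 1, 1)]), (40, [(66, 1, 1)]), (43, [(68, 1, 1)]), (44, [(69, 1, 1)]), (53, [(71, 1, 1)])],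
    [(36, [(65, 1, 1)]), (38, [(66, 1, 1)]), (42, [(67, 1, 1)]), (45, [(70, 1, 1)]), (52, [(71, 1, 1)])],
    [(37, [(66, 1, 1)]), (42, [(68, 1, 1)]), (44, [(70, 1, 1)]), (51, [(71, 1, 1)])], [(42, [(69, 1, 1)]),
    (43, [(70, 1, 1)]), (50, [(71, 1, 1)])], [(36, [(68, 1, 1)]), (38, [(69, 1, 1)]), (41, [(70, 1, 1)]),
    (49, [(71, 1, 1)])], [(37, [(69, 1, 1)]), (40, [(70, 1, 1)]), (48, [(71, 1, 1)])], [(39, [(70, 1,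
    1)]), (47, [(71, 1, 1)])], [(46, [(71, 1, 1)])], []]

/-- The tables. -/
def tbl : Tbl where
  comm := Trie.ofRows commRows
  refl :=
    [[0, 1, 2, 3, 4, 16, 17, 18, 19, 20, 21, 26, 27, 28, 29, 56, 5, 6, 7, 8, 9, 10, 22, 23, 24, 25, 11,
    12, 13, 14, 30, 31, 32, 33, 34, 35, 36, 37, 38, 39, 40, 41, 57, 58, 59, 60, 46, 47, 48, 49, 61, 62,
    63, 64, 65, 66, 15, 42, 43, 44, 45, 50, 51, 52, 53, 54, 55, 67, 68, 69, 70, 71], [1, 0, 2, 3, 4, 5, 6,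
    7, 11, 12, 13, 8, 9, 10, 14, 15, 16, 17, 18, 26, 27, 28, 30, 31, 32, 46, 19, 20, 21, 29, 22, 23, 24,
    33, 34, 35, 36, 37, 38, 47, 48, 49, 42, 50, 51, 52, 25, 39, 40, 41, 43, 44, 45, 53, 54, 55, 56, 57,
    61, 62, 63, 58, 59, 60, 64, 65, 66, 67, 68, 69, 71, 70], [0, 1, 5, 6, 7, 2, 3, 4, 8, 9, 10, 11, 12,
    13, 15, 14, 16, 17, 18, 22, 23, 24, 19, 20, 21, 25, 30, 31, 32, 42, 26, 27, 28, 33, 34, 35, 36, 37,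
    38, 43, 44, 45, 29, 39, 40, 41, 46, 50, 51, 52, 47, 48, 49, 53, 54, 55, 57, 56, 58, 59, 60, 61, 62,
    63, 67, 68, 69, 64, 65, 66, 70, 71], [0, 2, 1, 3, 4, 5, 8, 9, 6, 7, 10, 11, 12, 14, 13, 15, 16, 19,
    20, 17, 18, 21, 22, 23, 25, 24, 26, 27, 29, 28, 33, 34, 39, 30, 31, 35, 36, 40, 41, 32, 37, 38, 43,
    42, 44, 45, 47, 46, 48, 49, 50, 53, 54, 51, 52, 55, 56, 58, 57, 59, 60, 61, 64, 65, 62, 63, 66, 67,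
    68, 70, 69, 71], [0, 1, 3, 2, 4, 6, 5, 7, 8, 10, 9, 11, 13, 12, 14, 15, 17, 16, 18, 19, 21, 20, 22,
    24, 23, 25, 26, 28, 27, 29, 30, 32, 31, 35, 37, 33, 38, 34, 36, 40, 39, 41, 42, 44, 43, 45, 46, 48,
    47, 49, 51, 50, 52, 53, 55, 54, 56, 57, 59, 58, 60, 62, 61, 63, 64, 66, 65, 67, 69, 68, 70, 71], [0,
    1, 2, 4, 3, 5, 7, 6, 9, 8, 10, 12, 11, 13, 14, 15, 16, 18, 17, 20, 19, 21, 23, 22, 24, 25, 27, 26, 28,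
    29, 31, 30, 32, 34, 33, 36, 35, 38, 37, 39, 41, 40, 42, 43, 45, 44, 46, 47, 49, 48, 50, 52, 51, 54,
    53, 55, 56, 57, 58, 60, 59, 61, 63, 62, 65, 64, 66, 68, 67, 69, 70, 71]]
  cart :=
    [[0, 0, 0, 0, 0, -1, -1, -1, -1, -1, -1, -1, -1, -1, -1, -2, 1, 1, 1, 1, 1, 1, 0, 0, 0, 0, 1, 1, 1, 1,
    0, 0, 0, 0, 0, 0, 0, 0, 0, 0, 0, 0, -1, -1, -1, -1, 0, 0, 0, 0, -1, -1, -1, -1, -1, -1, 2, 1, 1, 1, 1,
    1, 1, 1, 1, 1, 1, 0, 0, 0, 0, 0], [-1, 1, 0, 0, 0, 0, 0, 0, -1, -1, -1, 1, 1, 1, 0, 0, 0, 0, 0, -1,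
    -1, -1, -1, -1, -1, -2, 1, 1, 1, 0, 1, 1, 1, 0, 0, 0, 0, 0, 0, -1, -1, -1, 0, -1, -1, -1, 2, 1, 1, 1,
    1, 1, 1, 0, 0, 0, 0, 0, -1, -1, -1, 1, 1, 1, 0, 0, 0, 0, 0, 0, -1, 1], [0, 0, -1, -1, -1, 1, 1, 1, 0,
    0, 0, 0, 0, 0, -1, 1, 0, 0, 0, -1, -1, -1, 1, 1, 1, 0, -1, -1, -1, -2, 1, 1, 1, 0, 0, 0, 0, 0, 0, -1,
    -1, -1, 2, 1, 1, 1, 0, -1, -1, -1, 1, 1, 1, 0, 0, 0, -1, 1, 0, 0, 0, 0, 0, 0, -1, -1, -1, 1, 1, 1, 0,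
    0], [0, -1, 1, 0, 0, 0, -1, -1, 1, 1, 0, 0, 0, -1, 1, 0, 0, -1, -1, 1, 1, 0, 0, 0, -1, 1, 0, 0, -1, 1,
    -1, -1, -2, 1, 1, 0, 0, -1, -1, 2, 1, 1, -1, 1, 0, 0, -1, 1, 0, 0, 0, -1, -1, 1, 1, 0, 0, -1, 1, 0, 0,
    0, -1, -1, 1, 1, 0, 0, 0, -1, 1, 0], [0, 0, -1, 1, 0, -1, 1, 0, 0, -1, 1, 0, -1, 1, 0, 0, -1, 1, 0, 0,
    -1, 1, 0, -1, 1, 0, 0, -1, 1, 0, 0, -1, 1, -1, -2, 1, -1, 2, 1, -1, 1, 0, 0, -1, 1, 0, 0, -1, 1, 0,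
    -1, 1, 0, 0, -1, 1, 0, 0, -1, 1, 0, -1, 1, 0, 0, -1, 1, 0, -1, 1, 0, 0], [0, 0, 0, -1, 1, 0, -1, 1,
    -1, 1, 0, -1, 1, 0, 0, 0, 0, -1, 1, -1, 1, 0, -1, 1, 0, 0, -1, 1, 0, 0, -1, 1, 0, -1, 1, -2, 2, -1, 1,
    0, -1, 1, 0, 0, -1, 1, 0, 0, -1, 1, 0, -1, 1, -1, 1, 0, 0, 0, 0, -1, 1, 0, -1, 1, -1, 1, 0, -1, 1, 0,
    0, 0]]

/-- The search at the pattern `[]` from `36` on. -/
def tree0 : Tree :=
  .split (.split (.split (.split (.split (.split (.goto [] 0) (.goto [] 1)) (.kill [.x 36 [-4, 4]] (.goto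
    [.n 5] 1))) (.kill [.x 37 [-4, 4]] (.kill [.x 38 [-4, 4]] (.goto [.n 4, .n 5] 1)))) (.split (.split
    (.kill [.x 39 [-4, 4]] (.goto [.n 3] 1)) (.kill [.x 36 [0, -4, 4]] (.goto [] 2))) (.kill [.x 37 [0,
    -4, 4]] (.kill [.x 38 [0, -4, 4]] (.bad 42))))) (.kill [.x 36 [-4, 4]] (.split (.kill [.x 39 [-4, 4]]
    (.split (.goto [.n 3, .n 5] 1) (.goto [.n 3] 2))) (.kill [.x 37 [0, -4, 4]] (.bad 41))))) (.split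
    (.kill [.x 37 [-4, 4]] (.split (.split (.kill [.x 40 [-4, 4]] (.goto [.n 4, .n 3] 1)) (.kill [.x 36
    [0, -4, 4]] (.bad 42))) (.split (.kill [.x 38 [0, -4, 4]] (.goto [.n 4] 2)) (.kill [.x 36 [0, 0, -4,
    4]] (.bad 42))))) (.kill [.x 36 [0, -4, 4]] (.bad 39)))

/-- The search at the pattern `[]` from `42` on. -/
def tree1 : Tree :=
  .split (.split (.split (.split (.goto [] 2) (.goto [] 3)) (.kill [.x 36 [-4, 4]] (.goto [.n 5] 3)))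
    (.kill [.x 37 [-4, 4]] (.kill [.x 38 [-4, 4]] (.goto [.n 4, .n 5] 3)))) (.kill [.x 39 [-4, 4]] (.kill
    [.x 40 [-4, 4]] (.kill [.x 41 [-4, 4]] (.goto [.n 3, .n 4, .n 5] 3))))

/-- The search at the pattern `[41]` from `42` on. -/
def tree2 : Tree :=
  .split (.split (.split (.kill [.x 42 [-4, 4]] (.goto [.n 2] 2)) (.kill [.x 36 [0, -4, 4]] (.goto [] 3)))
    (.kill [.x 37 [0, -4, 4]] (.kill [.x 38 [0, -4, 4]] (.goto [.n 4] 3)))) (.kill [.x 39 [0, -4, 4]]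
    (.kill [.x 40 [0, -4, 4]] (.kill [.x 41 [0, -4, 4]] (.bad 46))))

/-- The search at the pattern `[38, 40]` from `42` on. -/
def tree3 : Tree :=
  .split (.split (.kill [.x 42 [0, -4, 4]] (.kill [.x 43 [-4, 0, 4]] (.goto [.n 2, .n 3] 2))) (.kill [.x
    37 [0, 0, -4, 4]] (.kill [.x 38 [0, 0, -4, 4]] (.bad 46)))) (.split (.kill [.x 40 [0, 0, -4, 4]] (.bad
    45)) (.kill [.x 37 [0, 0, 0, -4, 4]] (.bad 45)))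

/-- The search at the pattern `[]` from `46` on. -/
def tree4 : Tree :=
  .split (.split (.split (.split (.split (.split (.split (.split (.split (.split (.goto [] 2) (.goto []
    3)) (.kill [.x 37 [-4, 4]] (.goto [.n 4] 3))) (.kill [.x 36 [-4, 4]] (.kill [.x 38 [-4, 4]] (.goto [.n
    5, .n 4] 3)))) (.split (.kill [.x 39 [-4, 4]] (.kill [.x 40 [-4, 4]] (.goto [.n 3, .n 4] 3))) (.kill
    [.x 36 [0, -4, 4]] (.kill [.x 38 [0, -4, 4]] (.goto [] 4))))) (.kill [.x 36 [-4, 4]] (.kill [.x 39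
    [-4, 4]] (.split (.kill [.x 41 [-4, 4]] (.goto [.n 3, .n 5, .n 4] 3)) (.kill [.x 37 [0, -4, 4]] (.goto
    [.n 3] 4)))))) (.kill [.x 37 [-4, 4]] (.kill [.x 38 [-4, 4]] (.kill [.x 40 [-4, 4]] (.kill [.x 41 [-4,
    4]] (.split (.goto [.n 4, .n 3, .n 5, .n 4] 3) (.goto [.n 4, .n 3] 4))))))) (.split (.split (.kill [.x
    42 [-4, 4]] (.split (.kill [.x 43 [-4, 4]] (.kill [.x 44 [-4, 4]] (.goto [.n 2, .n 3, .n 4] 3)))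
    (.kill [.x 36 [0, -4, 4]] (.kill [.x 38 [0, -4, 4]] (.goto [.n 2] 4))))) (.kill [.x 36 [0, -4, 4]]
    (.kill [.x 39 [0, -4, 4]] (.kill [.x 43 [-4, 0, 4]] (.kill [.x 41 [0, -4, 4]] (.goto [.n 3, .n 2]
    4)))))) (.kill [.x 37 [0, -4, 4]] (.kill [.x 38 [0, -4, 4]] (.kill [.x 40 [0, -4, 4]] (.kill [.x 41
    [0, -4, 4]] (.kill [.x 44 [-4, 0, 4]] (.goto [.n 4, .n 3, .n 2] 4)))))))) (.kill [.x 36 [-4, 4]]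
    (.split (.kill [.x 42 [-4, 4]] (.split (.kill [.x 43 [-4, 4]] (.split (.kill [.x 45 [-4, 4]] (.goto
    [.n 2, .n 3, .n 5, .n 4] 3)) (.kill [.x 37 [0, -4, 4]] (.goto [.n 2, .n 3] 4)))) (.kill [.x 43 [-4, 0,
    4]] (.kill [.x 39 [0, -4, 4]] (.kill [.x 40 [0, -4, 4]] (.goto [.n 2, .n 3, .n 2] 4)))))) (.kill [.x
    37 [0, -4, 4]] (.kill [.x 38 [0, -4, 4]] (.kill [.x 40 [0, -4, 4]] (.kill [.x 41 [0, -4, 4]] (.kill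
    [.x 45 [-4, 0, 4]] (.goto [.n 5, .n 4, .n 3, .n 2] 4))))))))) (.kill [.x 37 [-4, 4]] (.kill [.x 38
    [-4, 4]] (.kill [.x 42 [-4, 4]] (.split (.split (.kill [.x 44 [-4, 4]] (.kill [.x 45 [-4, 4]] (.split
    (.goto [.n 2, .n 4, .n 3, .n 5, .n 4] 3) (.goto [.n 2, .n 4, .n 3] 4)))) (.kill [.x 44 [-4, 0, 4]]
    (.kill [.x 39 [0, -4, 4]] (.kill [.x 40 [0, -4, 4]] (.goto [.n 2, .n 4, .n 3, .n 2] 4))))) (.kill [.x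
    36 [0, -4, 4]] (.kill [.x 39 [0, -4, 4]] (.kill [.x 45 [-4, 0, 4]] (.kill [.x 41 [0, -4, 4]] (.goto
    [.n 2, .n 5, .n 4, .n 3, .n 2] 4)))))))))) (.kill [.x 39 [-4, 4]] (.kill [.x 40 [-4, 4]] (.kill [.x 41
    [-4, 4]] (.kill [.x 43 [-4, 4]] (.kill [.x 44 [-4, 4]] (.kill [.x 45 [-4, 4]] (.split (.split (.split
    (.goto [.n 3, .n 2, .n 4, .n 3, .n 5, .n 4] 3) (.goto [.n 3, .n 2, .n 4, .n 3] 4)) (.kill [.x 37 [0,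
    -4, 4]] (.goto [.n 3, .n 2, .n 4, .n 3, .n 2] 4))) (.kill [.x 36 [0, -4, 4]] (.kill [.x 38 [0, -4, 4]]
    (.goto [.n 3, .n 2, .n 5, .n 4, .n 3, .n 2] 4))))))))))

/-- The search at the pattern `[45]` from `46` on. -/
def tree5 : Tree :=
  .split (.split (.split (.split (.split (.split (.kill [.x 46 [-4, 4]] (.split (.kill [.x 47 [-4, 4]]
    (.kill [.x 48 [-4, 4]] (.goto [.n 1, .n 3, .n 4] 2))) (.kill [.x 36 [0, -4, 4]] (.kill [.x 38 [0, -4,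
    4]] (.goto [.n 1] 3))))) (.kill [.x 36 [0, -4, 4]] (.kill [.x 39 [0, -4, 4]] (.kill [.x 47 [-4, 0, 4]]
    (.kill [.x 41 [0, -4, 4]] (.goto [.n 3, .n 1] 3)))))) (.kill [.x 37 [0, -4, 4]] (.kill [.x 38 [0, -4,
    4]] (.kill [.x 40 [0, -4, 4]] (.kill [.x 41 [0, -4, 4]] (.kill [.x 48 [-4, 0, 4]] (.goto [.n 4, .n 3,
    .n 1] 3))))))) (.split (.split (.kill [.x 42 [0, -4, 4]] (.split (.kill [.x 43 [0, -4, 4]] (.kill [.x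
    44 [0, -4, 4]] (.goto [] 4))) (.kill [.x 36 [0, 0, -4, 4]] (.kill [.x 38 [0, 0, -4, 4]] (.goto []
    5))))) (.kill [.x 36 [0, 0, -4, 4]] (.kill [.x 39 [0, 0, -4, 4]] (.kill [.x 43 [0, -4, 0, 4]] (.kill
    [.x 41 [0, 0, -4, 4]] (.goto [.n 3] 5)))))) (.kill [.x 37 [0, 0, -4, 4]] (.kill [.x 38 [0, 0, -4, 4]]
    (.kill [.x 40 [0, 0, -4, 4]] (.kill [.x 41 [0, 0, -4, 4]] (.kill [.x 44 [0, -4, 0, 4]] (.goto [.n 4,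
    .n 3] 5)))))))) (.kill [.x 36 [0, -4, 4]] (.split (.kill [.x 42 [0, -4, 4]] (.kill [.x 46 [-4, 0, 4]]
    (.kill [.x 43 [0, -4, 4]] (.kill [.x 47 [-4, 0, 4]] (.kill [.x 45 [0, -4, 4]] (.bad 56)))))) (.kill
    [.x 37 [0, 0, -4, 4]] (.kill [.x 38 [0, 0, -4, 4]] (.kill [.x 40 [0, 0, -4, 4]] (.kill [.x 41 [0, 0,
    -4, 4]] (.kill [.x 45 [0, -4, 0, 4]] (.bad 56))))))))) (.kill [.x 37 [0, -4, 4]] (.kill [.x 38 [0, -4,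
    4]] (.kill [.x 42 [0, -4, 4]] (.split (.kill [.x 46 [-4, 0, 4]] (.kill [.x 44 [0, -4, 4]] (.kill [.x
    45 [0, -4, 4]] (.bad 55)))) (.kill [.x 36 [0, 0, -4, 4]] (.kill [.x 39 [0, 0, -4, 4]] (.kill [.x 45
    [0, -4, 0, 4]] (.bad 55))))))))) (.kill [.x 39 [0, -4, 4]] (.kill [.x 40 [0, -4, 4]] (.kill [.x 41 [0,
    -4, 4]] (.kill [.x 43 [0, -4, 4]] (.kill [.x 44 [0, -4, 4]] (.kill [.x 45 [0, -4, 4]] (.bad 53)))))))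

/-- The search at the pattern `[41, 44]` from `46` on. -/
def tree6 : Tree :=
  .split (.split (.split (.kill [.x 46 [-4, 0, 4]] (.split (.split (.split (.kill [.x 47 [0, -4, 4]]
    (.kill [.x 50 [-4, 0, 4]] (.kill [.x 49 [0, -4, 4]] (.goto [.n 1, .n 3, .n 2] 2)))) (.kill [.x 47 [0,
    -4, 0, 4]] (.kill [.x 39 [0, 0, -4, 4]] (.kill [.x 40 [0, 0, -4, 4]] (.goto [.n 1, .n 3] 4)))))
    (.split (.kill [.x 39 [0, 0, -4, 4]] (.kill [.x 50 [-4, 0, 0, 4]] (.kill [.x 41 [0, 0, -4, 4]] (.bad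
    56)))) (.kill [.x 39 [0, 0, -4, 0, 4]] (.kill [.x 50 [-4, 0, 0, 0, 4]] (.kill [.x 40 [0, 0, 0, -4, 4]]
    (.bad 56)))))) (.kill [.x 37 [0, 0, -4, 4]] (.kill [.x 38 [0, 0, -4, 4]] (.kill [.x 40 [0, 0, -4, 4]]
    (.kill [.x 41 [0, 0, -4, 4]] (.bad 55))))))) (.kill [.x 46 [-4, 0, 0, 4]] (.split (.split (.split
    (.kill [.x 43 [0, 0, -4, 4]] (.kill [.x 50 [-4, 0, 0, 4]] (.kill [.x 45 [0, 0, -4, 4]] (.goto [.n 1,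
    .n 2, .n 3, .n 5] 4)))) (.kill [.x 43 [0, 0, -4, 0, 4]] (.kill [.x 39 [0, 0, 0, -4, 4]] (.kill [.x 40
    [0, 0, 0, -4, 4]] (.goto [] 5))))) (.split (.kill [.x 39 [0, 0, 0, -4, 4]] (.kill [.x 50 [-4, 0, 0, 0,
    4]] (.kill [.x 41 [0, 0, 0, -4, 4]] (.bad 56)))) (.kill [.x 39 [0, 0, 0, -4, 0, 4]] (.kill [.x 50 [-4,
    0, 0, 0, 0, 4]] (.kill [.x 40 [0, 0, 0, 0, -4, 4]] (.bad 56)))))) (.kill [.x 37 [0, 0, 0, -4, 4]]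
    (.kill [.x 38 [0, 0, 0, -4, 4]] (.kill [.x 40 [0, 0, 0, -4, 4]] (.kill [.x 41 [0, 0, 0, -4, 4]] (.bad
    55)))))))) (.kill [.x 37 [0, 0, -4, 4]] (.kill [.x 38 [0, 0, -4, 4]] (.split (.split (.split (.kill
    [.x 44 [0, 0, -4, 4]] (.bad 54)) (.kill [.x 44 [0, 0, -4, 0, 4]] (.bad 54))) (.split (.kill [.x 39 [0,
    0, 0, -4, 4]] (.bad 54)) (.kill [.x 39 [0, 0, 0, -4, 0, 4]] (.bad 54)))) (.split (.split (.kill [.x 40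
    [0, 0, 0, -4, 4]] (.bad 54)) (.kill [.x 40 [0, 0, 0, -4, 0, 4]] (.bad 54))) (.split (.kill [.x 39 [0,
    0, 0, 0, -4, 4]] (.bad 54)) (.kill [.x 39 [0, 0, 0, 0, -4, 0, 4]] (.bad 54)))))))) (.kill [.x 39 [0,
    0, -4, 4]] (.kill [.x 40 [0, 0, -4, 4]] (.kill [.x 41 [0, 0, -4, 4]] (.bad 50))))

/-- The search at the pattern `[]` from `56` on. -/
def tree7 : Tree :=
  .split (.split (.split (.split (.split (.split (.split (.split (.split (.split (.split (.split (.split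
    (.split (.split (.split (.goto [] 9) (.goto [] 6)) (.kill [.x 46 [-4, 4]] (.goto [.n 1] 6))) (.kill
    [.x 39 [-4, 4]] (.kill [.x 47 [-4, 4]] (.goto [.n 3, .n 1] 6)))) (.kill [.x 37 [-4, 4]] (.kill [.x 40
    [-4, 4]] (.kill [.x 48 [-4, 4]] (.goto [.n 4, .n 3, .n 1] 6))))) (.kill [.x 36 [-4, 4]] (.kill [.x 38
    [-4, 4]] (.kill [.x 41 [-4, 4]] (.kill [.x 49 [-4, 4]] (.goto [.n 5, .n 4, .n 3, .n 1] 6)))))) (.split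
    (.split (.kill [.x 42 [-4, 4]] (.kill [.x 43 [-4, 4]] (.kill [.x 50 [-4, 4]] (.goto [.n 2, .n 3, .n 1]
    6)))) (.kill [.x 37 [0, -4, 4]] (.kill [.x 40 [0, -4, 4]] (.kill [.x 48 [0, -4, 4]] (.goto [] 7)))))
    (.kill [.x 36 [0, -4, 4]] (.kill [.x 38 [0, -4, 4]] (.kill [.x 41 [0, -4, 4]] (.kill [.x 49 [0, -4,
    4]] (.goto [.n 5] 7))))))) (.kill [.x 37 [-4, 4]] (.split (.kill [.x 42 [-4, 4]] (.split (.kill [.x 44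
    [-4, 4]] (.kill [.x 51 [-4, 4]] (.goto [.n 2, .n 4, .n 3, .n 1] 6))) (.kill [.x 39 [0, -4, 4]] (.kill
    [.x 47 [0, -4, 4]] (.goto [.n 2] 7))))) (.kill [.x 36 [0, -4, 4]] (.kill [.x 38 [0, -4, 4]] (.kill [.x
    41 [0, -4, 4]] (.kill [.x 49 [0, -4, 4]] (.goto [.n 4, .n 5] 7)))))))) (.kill [.x 36 [-4, 4]] (.kill
    [.x 38 [-4, 4]] (.kill [.x 42 [-4, 4]] (.split (.split (.kill [.x 45 [-4, 4]] (.kill [.x 52 [-4, 4]]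
    (.goto [.n 2, .n 5, .n 4, .n 3, .n 1] 6))) (.kill [.x 39 [0, -4, 4]] (.kill [.x 47 [0, -4, 4]] (.goto
    [.n 2, .n 5] 7)))) (.kill [.x 37 [0, -4, 4]] (.kill [.x 40 [0, -4, 4]] (.kill [.x 48 [0, -4, 4]]
    (.goto [.n 2, .n 4, .n 5] 7))))))))) (.split (.kill [.x 39 [-4, 4]] (.kill [.x 40 [-4, 4]] (.split
    (.kill [.x 43 [-4, 4]] (.kill [.x 44 [-4, 4]] (.split (.kill [.x 53 [-4, 4]] (.goto [.n 3, .n 2, .n 4,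
    .n 3, .n 1] 6)) (.kill [.x 46 [0, -4, 4]] (.goto [.n 3, .n 2] 7))))) (.kill [.x 36 [0, -4, 4]] (.kill
    [.x 38 [0, -4, 4]] (.kill [.x 41 [0, -4, 4]] (.kill [.x 49 [0, -4, 4]] (.goto [.n 3, .n 4, .n 5]
    7)))))))) (.kill [.x 36 [0, -4, 4]] (.kill [.x 38 [0, -4, 4]] (.kill [.x 42 [0, -4, 4]] (.kill [.x 43
    [-4, 0, 4]] (.kill [.x 44 [-4, 0, 4]] (.kill [.x 45 [0, -4, 4]] (.kill [.x 52 [0, -4, 4]] (.goto [.n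
    2, .n 3, .n 4, .n 5] 7)))))))))) (.kill [.x 36 [-4, 4]] (.kill [.x 39 [-4, 4]] (.split (.kill [.x 41
    [-4, 4]] (.kill [.x 43 [-4, 4]] (.split (.kill [.x 45 [-4, 4]] (.split (.kill [.x 54 [-4, 4]] (.goto
    [.n 3, .n 2, .n 5, .n 4, .n 3, .n 1] 6)) (.kill [.x 46 [0, -4, 4]] (.goto [.n 3, .n 2, .n 5] 7))))
    (.kill [.x 37 [0, -4, 4]] (.kill [.x 40 [0, -4, 4]] (.kill [.x 48 [0, -4, 4]] (.goto [.n 3, .n 2, .n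
    4, .n 5] 7))))))) (.kill [.x 37 [0, -4, 4]] (.kill [.x 43 [-4, 0, 4]] (.kill [.x 42 [0, -4, 4]] (.kill
    [.x 45 [-4, 0, 4]] (.kill [.x 44 [0, -4, 4]] (.kill [.x 51 [0, -4, 4]] (.goto [.n 2, .n 3, .n 2, .n 4,
    .n 5] 7))))))))))) (.kill [.x 37 [-4, 4]] (.kill [.x 38 [-4, 4]] (.kill [.x 40 [-4, 4]] (.kill [.x 41
    [-4, 4]] (.split (.kill [.x 44 [-4, 4]] (.kill [.x 45 [-4, 4]] (.split (.split (.kill [.x 55 [-4, 4]]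
    (.goto [.n 4, .n 3, .n 2, .n 5, .n 4, .n 3, .n 1] 6)) (.kill [.x 46 [0, -4, 4]] (.goto [.n 4, .n 3, .n
    2, .n 5] 7))) (.kill [.x 39 [0, -4, 4]] (.kill [.x 47 [0, -4, 4]] (.goto [.n 3, .n 4, .n 3, .n 2, .n
    5] 7)))))) (.kill [.x 44 [-4, 0, 4]] (.kill [.x 45 [-4, 0, 4]] (.kill [.x 42 [0, -4, 4]] (.kill [.x 43
    [0, -4, 4]] (.kill [.x 50 [0, -4, 4]] (.goto [.n 2, .n 3, .n 4, .n 3, .n 2, .n 5] 7))))))))))))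
    (.split (.split (.kill [.x 46 [-4, 4]] (.split (.kill [.x 47 [-4, 4]] (.kill [.x 48 [-4, 4]] (.split
    (.kill [.x 50 [-4, 4]] (.kill [.x 51 [-4, 4]] (.kill [.x 53 [-4, 4]] (.split (.goto [.n 1, .n 3, .n 2,
    .n 4, .n 3, .n 1] 6) (.goto [.n 1, .n 3, .n 2] 7))))) (.kill [.x 36 [0, -4, 4]] (.kill [.x 38 [0, -4,
    4]] (.kill [.x 41 [0, -4, 4]] (.kill [.x 49 [0, -4, 4]] (.goto [.n 1, .n 3, .n 4, .n 5] 7))))))))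
    (.kill [.x 36 [0, -4, 4]] (.kill [.x 38 [0, -4, 4]] (.kill [.x 42 [0, -4, 4]] (.kill [.x 50 [-4, 0,
    4]] (.kill [.x 51 [-4, 0, 4]] (.kill [.x 45 [0, -4, 4]] (.kill [.x 52 [0, -4, 4]] (.goto [.n 1, .n 2,
    .n 3, .n 4, .n 5] 7)))))))))) (.kill [.x 36 [0, -4, 4]] (.kill [.x 39 [0, -4, 4]] (.kill [.x 47 [-4,
    0, 4]] (.kill [.x 41 [0, -4, 4]] (.kill [.x 43 [0, -4, 4]] (.kill [.x 50 [-4, 0, 4]] (.kill [.x 45 [0,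
    -4, 4]] (.kill [.x 53 [-4, 0, 4]] (.kill [.x 54 [0, -4, 4]] (.goto [.n 3, .n 1, .n 2, .n 3, .n 4, .n
    5] 7))))))))))) (.kill [.x 37 [0, -4, 4]] (.kill [.x 38 [0, -4, 4]] (.kill [.x 40 [0, -4, 4]] (.kill
    [.x 41 [0, -4, 4]] (.kill [.x 48 [-4, 0, 4]] (.kill [.x 44 [0, -4, 4]] (.kill [.x 45 [0, -4, 4]]
    (.kill [.x 51 [-4, 0, 4]] (.kill [.x 53 [-4, 0, 4]] (.kill [.x 55 [0, -4, 4]] (.goto [.n 4, .n 3, .n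
    1, .n 2, .n 3, .n 4, .n 5] 7))))))))))))) (.kill [.x 36 [-4, 4]] (.split (.kill [.x 46 [-4, 4]]
    (.split (.kill [.x 47 [-4, 4]] (.split (.kill [.x 49 [-4, 4]] (.kill [.x 50 [-4, 4]] (.split (.kill
    [.x 52 [-4, 4]] (.kill [.x 54 [-4, 4]] (.split (.goto [.n 1, .n 3, .n 2, .n 5, .n 4, .n 3, .n 1] 6)
    (.goto [.n 1, .n 3, .n 2, .n 5] 7)))) (.kill [.x 37 [0, -4, 4]] (.kill [.x 40 [0, -4, 4]] (.kill [.x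
    48 [0, -4, 4]] (.goto [.n 1, .n 3, .n 2, .n 4, .n 5] 7))))))) (.kill [.x 37 [0, -4, 4]] (.kill [.x 50
    [-4, 0, 4]] (.kill [.x 42 [0, -4, 4]] (.kill [.x 52 [-4, 0, 4]] (.kill [.x 44 [0, -4, 4]] (.kill [.x
    51 [0, -4, 4]] (.goto [.n 1, .n 2, .n 3, .n 2, .n 4, .n 5] 7))))))))) (.kill [.x 47 [-4, 0, 4]] (.kill
    [.x 39 [0, -4, 4]] (.kill [.x 40 [0, -4, 4]] (.kill [.x 50 [-4, 0, 4]] (.kill [.x 43 [0, -4, 4]]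
    (.kill [.x 44 [0, -4, 4]] (.kill [.x 54 [-4, 0, 4]] (.kill [.x 53 [0, -4, 4]] (.goto [.n 1, .n 3, .n
    1, .n 2, .n 3, .n 4, .n 5] 7))))))))))) (.kill [.x 37 [0, -4, 4]] (.kill [.x 38 [0, -4, 4]] (.kill [.x
    40 [0, -4, 4]] (.kill [.x 41 [0, -4, 4]] (.kill [.x 49 [-4, 0, 4]] (.kill [.x 44 [0, -4, 4]] (.kill
    [.x 45 [0, -4, 4]] (.kill [.x 52 [-4, 0, 4]] (.kill [.x 54 [-4, 0, 4]] (.kill [.x 55 [0, -4, 4]]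
    (.goto [.n 5, .n 4, .n 3, .n 1, .n 2, .n 3, .n 4, .n 5] 7)))))))))))))) (.kill [.x 37 [-4, 4]] (.kill
    [.x 38 [-4, 4]] (.kill [.x 46 [-4, 4]] (.split (.split (.kill [.x 48 [-4, 4]] (.kill [.x 49 [-4, 4]]
    (.split (.kill [.x 51 [-4, 4]] (.kill [.x 52 [-4, 4]] (.split (.kill [.x 55 [-4, 4]] (.split (.goto
    [.n 1, .n 4, .n 3, .n 2, .n 5, .n 4, .n 3, .n 1] 6) (.goto [.n 1, .n 4, .n 3, .n 2, .n 5] 7))) (.kill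
    [.x 39 [0, -4, 4]] (.kill [.x 47 [0, -4, 4]] (.goto [.n 1, .n 3, .n 4, .n 3, .n 2, .n 5] 7))))))
    (.kill [.x 51 [-4, 0, 4]] (.kill [.x 52 [-4, 0, 4]] (.kill [.x 42 [0, -4, 4]] (.kill [.x 43 [0, -4,
    4]] (.kill [.x 50 [0, -4, 4]] (.goto [.n 1, .n 2, .n 3, .n 4, .n 3, .n 2, .n 5] 7))))))))) (.kill [.x
    48 [-4, 0, 4]] (.kill [.x 39 [0, -4, 4]] (.kill [.x 40 [0, -4, 4]] (.kill [.x 51 [-4, 0, 4]] (.kill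
    [.x 43 [0, -4, 4]] (.kill [.x 44 [0, -4, 4]] (.kill [.x 55 [-4, 0, 4]] (.kill [.x 53 [0, -4, 4]]
    (.goto [.n 1, .n 4, .n 3, .n 1, .n 2, .n 3, .n 4, .n 5] 7)))))))))) (.kill [.x 36 [0, -4, 4]] (.kill
    [.x 39 [0, -4, 4]] (.kill [.x 49 [-4, 0, 4]] (.kill [.x 41 [0, -4, 4]] (.kill [.x 43 [0, -4, 4]]
    (.kill [.x 52 [-4, 0, 4]] (.kill [.x 45 [0, -4, 4]] (.kill [.x 55 [-4, 0, 4]] (.kill [.x 54 [0, -4,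
    4]] (.goto [.n 1, .n 5, .n 4, .n 3, .n 1, .n 2, .n 3, .n 4, .n 5] 7))))))))))))))) (.kill [.x 39 [-4,
    4]] (.kill [.x 40 [-4, 4]] (.kill [.x 41 [-4, 4]] (.kill [.x 47 [-4, 4]] (.kill [.x 48 [-4, 4]] (.kill
    [.x 49 [-4, 4]] (.split (.split (.split (.kill [.x 53 [-4, 4]] (.kill [.x 54 [-4, 4]] (.kill [.x 55
    [-4, 4]] (.split (.split (.goto [.n 3, .n 1, .n 4, .n 3, .n 2, .n 5, .n 4, .n 3, .n 1] 6) (.goto [.n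
    3, .n 1, .n 4, .n 3, .n 2, .n 5] 7)) (.kill [.x 46 [0, -4, 4]] (.goto [.n 1, .n 3, .n 1, .n 4, .n 3,
    .n 2, .n 5] 7)))))) (.kill [.x 53 [-4, 0, 4]] (.kill [.x 54 [-4, 0, 4]] (.kill [.x 42 [0, -4, 4]]
    (.kill [.x 43 [0, -4, 4]] (.kill [.x 50 [0, -4, 4]] (.goto [.n 3, .n 1, .n 2, .n 3, .n 4, .n 3, .n 2,
    .n 5] 7))))))) (.kill [.x 37 [0, -4, 4]] (.kill [.x 53 [-4, 0, 4]] (.kill [.x 42 [0, -4, 4]] (.kill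
    [.x 55 [-4, 0, 4]] (.kill [.x 44 [0, -4, 4]] (.kill [.x 51 [0, -4, 4]] (.goto [.n 3, .n 1, .n 4, .n 3,
    .n 1, .n 2, .n 3, .n 4, .n 5] 7)))))))) (.kill [.x 36 [0, -4, 4]] (.kill [.x 38 [0, -4, 4]] (.kill [.x
    42 [0, -4, 4]] (.kill [.x 54 [-4, 0, 4]] (.kill [.x 55 [-4, 0, 4]] (.kill [.x 45 [0, -4, 4]] (.kill
    [.x 52 [0, -4, 4]] (.goto [.n 3, .n 1, .n 5, .n 4, .n 3, .n 1, .n 2, .n 3, .n 4, .n 5]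
    7)))))))))))))))) (.kill [.x 42 [-4, 4]] (.kill [.x 43 [-4, 4]] (.kill [.x 44 [-4, 4]] (.kill [.x 45
    [-4, 4]] (.kill [.x 50 [-4, 4]] (.kill [.x 51 [-4, 4]] (.kill [.x 52 [-4, 4]] (.kill [.x 53 [-4, 4]]
    (.kill [.x 54 [-4, 4]] (.kill [.x 55 [-4, 4]] (.split (.split (.split (.split (.split (.goto [.n 2, .n
    3, .n 1, .n 4, .n 3, .n 2, .n 5, .n 4, .n 3, .n 1] 6) (.goto [.n 2, .n 3, .n 1, .n 4, .n 3, .n 2, .n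
    5] 7)) (.kill [.x 46 [0, -4, 4]] (.goto [.n 1, .n 2, .n 3, .n 1, .n 4, .n 3, .n 2, .n 5] 7))) (.kill
    [.x 39 [0, -4, 4]] (.kill [.x 47 [0, -4, 4]] (.goto [.n 2, .n 3, .n 1, .n 2, .n 3, .n 4, .n 3, .n 2,
    .n 5] 7)))) (.kill [.x 37 [0, -4, 4]] (.kill [.x 40 [0, -4, 4]] (.kill [.x 48 [0, -4, 4]] (.goto [.n
    2, .n 3, .n 1, .n 4, .n 3, .n 1, .n 2, .n 3, .n 4, .n 5] 7))))) (.kill [.x 36 [0, -4, 4]] (.kill [.x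
    38 [0, -4, 4]] (.kill [.x 41 [0, -4, 4]] (.kill [.x 49 [0, -4, 4]] (.goto [.n 2, .n 3, .n 1, .n 5, .n
    4, .n 3, .n 1, .n 2, .n 3, .n 4, .n 5] 7))))))))))))))))

/-- The search at the pattern `[55]` from `56` on. -/
def tree8 : Tree :=
  .split (.split (.split (.split (.split (.split (.split (.split (.split (.split (.kill [.x 56 [-4, 4]]
    (.split (.split (.kill [.x 57 [-4, 4]] (.kill [.x 58 [-4, 4]] (.kill [.x 61 [-4, 4]] (.goto [.n 0, .n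
    2, .n 3, .n 1] 5)))) (.kill [.x 37 [0, -4, 4]] (.kill [.x 40 [0, -4, 4]] (.kill [.x 48 [0, -4, 4]]
    (.goto [.n 0] 6))))) (.kill [.x 36 [0, -4, 4]] (.kill [.x 38 [0, -4, 4]] (.kill [.x 41 [0, -4, 4]]
    (.kill [.x 49 [0, -4, 4]] (.goto [.n 0, .n 5] 6))))))) (.kill [.x 37 [0, -4, 4]] (.split (.kill [.x 42
    [0, -4, 4]] (.kill [.x 57 [-4, 0, 4]] (.kill [.x 44 [0, -4, 4]] (.kill [.x 51 [0, -4, 4]] (.goto [.n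
    2, .n 0] 6))))) (.kill [.x 36 [0, 0, -4, 4]] (.kill [.x 38 [0, 0, -4, 4]] (.kill [.x 41 [0, 0, -4, 4]]
    (.kill [.x 49 [0, 0, -4, 4]] (.goto [] 7)))))))) (.kill [.x 36 [0, -4, 4]] (.kill [.x 38 [0, -4, 4]]
    (.kill [.x 42 [0, -4, 4]] (.split (.kill [.x 57 [-4, 0, 4]] (.kill [.x 45 [0, -4, 4]] (.kill [.x 52
    [0, -4, 4]] (.goto [.n 2, .n 0, .n 5] 6)))) (.kill [.x 37 [0, 0, -4, 4]] (.kill [.x 40 [0, 0, -4, 4]]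
    (.kill [.x 48 [0, 0, -4, 4]] (.goto [.n 2] 7))))))))) (.split (.kill [.x 39 [0, -4, 4]] (.kill [.x 40
    [0, -4, 4]] (.split (.kill [.x 43 [0, -4, 4]] (.kill [.x 44 [0, -4, 4]] (.kill [.x 58 [-4, 0, 4]]
    (.kill [.x 53 [0, -4, 4]] (.goto [.n 3, .n 2, .n 0] 6))))) (.kill [.x 36 [0, 0, -4, 4]] (.kill [.x 38
    [0, 0, -4, 4]] (.kill [.x 41 [0, 0, -4, 4]] (.kill [.x 49 [0, 0, -4, 4]] (.goto [.n 3] 7))))))))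
    (.kill [.x 36 [0, 0, -4, 4]] (.kill [.x 38 [0, 0, -4, 4]] (.kill [.x 42 [0, 0, -4, 4]] (.kill [.x 43
    [0, -4, 0, 4]] (.kill [.x 44 [0, -4, 0, 4]] (.kill [.x 45 [0, 0, -4, 4]] (.kill [.x 52 [0, 0, -4, 4]]
    (.goto [.n 2, .n 3] 7)))))))))) (.kill [.x 36 [0, -4, 4]] (.kill [.x 39 [0, -4, 4]] (.split (.kill [.x
    41 [0, -4, 4]] (.kill [.x 43 [0, -4, 4]] (.split (.kill [.x 45 [0, -4, 4]] (.kill [.x 58 [-4, 0, 4]]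
    (.kill [.x 54 [0, -4, 4]] (.goto [.n 3, .n 2, .n 0, .n 5] 6)))) (.kill [.x 37 [0, 0, -4, 4]] (.kill
    [.x 40 [0, 0, -4, 4]] (.kill [.x 48 [0, 0, -4, 4]] (.goto [.n 3, .n 2] 7))))))) (.kill [.x 37 [0, 0,
    -4, 4]] (.kill [.x 43 [0, -4, 0, 4]] (.kill [.x 42 [0, 0, -4, 4]] (.kill [.x 45 [0, -4, 0, 4]] (.kill
    [.x 44 [0, 0, -4, 4]] (.kill [.x 51 [0, 0, -4, 4]] (.goto [.n 2, .n 3, .n 2] 7))))))))))) (.kill [.x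
    37 [0, -4, 4]] (.kill [.x 38 [0, -4, 4]] (.kill [.x 40 [0, -4, 4]] (.kill [.x 41 [0, -4, 4]] (.kill
    [.x 56 [-4, 0, 4]] (.kill [.x 44 [0, -4, 4]] (.kill [.x 45 [0, -4, 4]] (.kill [.x 57 [-4, 0, 4]]
    (.kill [.x 58 [-4, 0, 4]] (.kill [.x 55 [0, -4, 4]] (.bad 72)))))))))))) (.split (.split (.kill [.x 46
    [0, -4, 4]] (.split (.kill [.x 47 [0, -4, 4]] (.kill [.x 48 [0, -4, 4]] (.split (.kill [.x 50 [0, -4,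
    4]] (.kill [.x 51 [0, -4, 4]] (.kill [.x 53 [0, -4, 4]] (.kill [.x 61 [-4, 0, 4]] (.goto [.n 1, .n 3,
    .n 2, .n 0] 6))))) (.kill [.x 36 [0, 0, -4, 4]] (.kill [.x 38 [0, 0, -4, 4]] (.kill [.x 41 [0, 0, -4,
    4]] (.kill [.x 49 [0, 0, -4, 4]] (.goto [.n 1, .n 3] 7)))))))) (.kill [.x 36 [0, 0, -4, 4]] (.kill [.x
    38 [0, 0, -4, 4]] (.kill [.x 42 [0, 0, -4, 4]] (.kill [.x 50 [0, -4, 0, 4]] (.kill [.x 51 [0, -4, 0,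
    4]] (.kill [.x 45 [0, 0, -4, 4]] (.kill [.x 52 [0, 0, -4, 4]] (.goto [.n 1, .n 2, .n 3] 7))))))))))
    (.kill [.x 36 [0, 0, -4, 4]] (.kill [.x 39 [0, 0, -4, 4]] (.kill [.x 47 [0, -4, 0, 4]] (.kill [.x 41
    [0, 0, -4, 4]] (.kill [.x 43 [0, 0, -4, 4]] (.kill [.x 50 [0, -4, 0, 4]] (.kill [.x 45 [0, 0, -4, 4]]
    (.kill [.x 53 [0, -4, 0, 4]] (.kill [.x 54 [0, 0, -4, 4]] (.goto [.n 3, .n 1, .n 2, .n 3] 7)))))))))))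
    (.kill [.x 37 [0, 0, -4, 4]] (.kill [.x 38 [0, 0, -4, 4]] (.kill [.x 40 [0, 0, -4, 4]] (.kill [.x 41
    [0, 0, -4, 4]] (.kill [.x 48 [0, -4, 0, 4]] (.kill [.x 44 [0, 0, -4, 4]] (.kill [.x 45 [0, 0, -4, 4]]
    (.kill [.x 51 [0, -4, 0, 4]] (.kill [.x 53 [0, -4, 0, 4]] (.kill [.x 55 [0, 0, -4, 4]] (.bad
    72))))))))))))) (.kill [.x 36 [0, -4, 4]] (.split (.kill [.x 46 [0, -4, 4]] (.split (.kill [.x 47 [0,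
    -4, 4]] (.split (.kill [.x 49 [0, -4, 4]] (.kill [.x 50 [0, -4, 4]] (.split (.kill [.x 52 [0, -4, 4]]
    (.kill [.x 54 [0, -4, 4]] (.kill [.x 61 [-4, 0, 4]] (.goto [.n 1, .n 3, .n 2, .n 0, .n 5] 6)))) (.kill
    [.x 37 [0, 0, -4, 4]] (.kill [.x 40 [0, 0, -4, 4]] (.kill [.x 48 [0, 0, -4, 4]] (.goto [.n 1, .n 3, .n
    2] 7))))))) (.kill [.x 37 [0, 0, -4, 4]] (.kill [.x 50 [0, -4, 0, 4]] (.kill [.x 42 [0, 0, -4, 4]]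
    (.kill [.x 52 [0, -4, 0, 4]] (.kill [.x 44 [0, 0, -4, 4]] (.kill [.x 51 [0, 0, -4, 4]] (.goto [.n 1,
    .n 2, .n 3, .n 2] 7))))))))) (.kill [.x 47 [0, -4, 0, 4]] (.kill [.x 39 [0, 0, -4, 4]] (.kill [.x 40
    [0, 0, -4, 4]] (.kill [.x 50 [0, -4, 0, 4]] (.kill [.x 43 [0, 0, -4, 4]] (.kill [.x 44 [0, 0, -4, 4]]
    (.kill [.x 54 [0, -4, 0, 4]] (.kill [.x 53 [0, 0, -4, 4]] (.goto [.n 1, .n 3, .n 1, .n 2, .n 3]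
    7))))))))))) (.kill [.x 37 [0, 0, -4, 4]] (.kill [.x 38 [0, 0, -4, 4]] (.kill [.x 40 [0, 0, -4, 4]]
    (.kill [.x 41 [0, 0, -4, 4]] (.kill [.x 49 [0, -4, 0, 4]] (.kill [.x 44 [0, 0, -4, 4]] (.kill [.x 45
    [0, 0, -4, 4]] (.kill [.x 52 [0, -4, 0, 4]] (.kill [.x 54 [0, -4, 0, 4]] (.kill [.x 55 [0, 0, -4, 4]]
    (.bad 72)))))))))))))) (.kill [.x 37 [0, -4, 4]] (.kill [.x 38 [0, -4, 4]] (.kill [.x 46 [0, -4, 4]]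
    (.split (.split (.kill [.x 48 [0, -4, 4]] (.kill [.x 49 [0, -4, 4]] (.kill [.x 56 [-4, 0, 4]] (.kill
    [.x 51 [0, -4, 4]] (.kill [.x 52 [0, -4, 4]] (.kill [.x 57 [-4, 0, 4]] (.kill [.x 55 [0, -4, 4]] (.bad
    71)))))))) (.kill [.x 48 [0, -4, 0, 4]] (.kill [.x 39 [0, 0, -4, 4]] (.kill [.x 40 [0, 0, -4, 4]]
    (.kill [.x 51 [0, -4, 0, 4]] (.kill [.x 43 [0, 0, -4, 4]] (.kill [.x 44 [0, 0, -4, 4]] (.kill [.x 55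
    [0, -4, 0, 4]] (.bad 71))))))))) (.kill [.x 36 [0, 0, -4, 4]] (.kill [.x 39 [0, 0, -4, 4]] (.kill [.x
    49 [0, -4, 0, 4]] (.kill [.x 41 [0, 0, -4, 4]] (.kill [.x 43 [0, 0, -4, 4]] (.kill [.x 52 [0, -4, 0,
    4]] (.kill [.x 45 [0, 0, -4, 4]] (.kill [.x 55 [0, -4, 0, 4]] (.bad 71)))))))))))))) (.kill [.x 39 [0,
    -4, 4]] (.kill [.x 40 [0, -4, 4]] (.kill [.x 41 [0, -4, 4]] (.kill [.x 47 [0, -4, 4]] (.kill [.x 48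
    [0, -4, 4]] (.kill [.x 49 [0, -4, 4]] (.split (.split (.kill [.x 56 [-4, 0, 4]] (.kill [.x 53 [0, -4,
    4]] (.kill [.x 54 [0, -4, 4]] (.kill [.x 55 [0, -4, 4]] (.bad 70))))) (.kill [.x 37 [0, 0, -4, 4]]
    (.kill [.x 53 [0, -4, 0, 4]] (.kill [.x 42 [0, 0, -4, 4]] (.kill [.x 55 [0, -4, 0, 4]] (.bad 70))))))
    (.kill [.x 36 [0, 0, -4, 4]] (.kill [.x 38 [0, 0, -4, 4]] (.kill [.x 42 [0, 0, -4, 4]] (.kill [.x 54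
    [0, -4, 0, 4]] (.kill [.x 55 [0, -4, 0, 4]] (.bad 70)))))))))))))) (.kill [.x 42 [0, -4, 4]] (.kill
    [.x 43 [0, -4, 4]] (.kill [.x 44 [0, -4, 4]] (.kill [.x 45 [0, -4, 4]] (.kill [.x 50 [0, -4, 4]]
    (.kill [.x 51 [0, -4, 4]] (.kill [.x 52 [0, -4, 4]] (.kill [.x 53 [0, -4, 4]] (.kill [.x 54 [0, -4,
    4]] (.kill [.x 55 [0, -4, 4]] (.bad 67)))))))))))

/-- The search at the pattern `[52, 53]` from `56` on. -/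
def tree9 : Tree :=
  .split (.split (.split (.split (.split (.split (.split (.kill [.x 56 [-4, 0, 4]] (.split (.split (.split
    (.kill [.x 57 [0, -4, 4]] (.kill [.x 58 [-4, 0, 4]] (.kill [.x 59 [-4, 0, 4]] (.kill [.x 60 [0, -4,
    4]] (.kill [.x 63 [0, -4, 4]] (.goto [.n 0, .n 2, .n 3, .n 4, .n 5] 5)))))) (.kill [.x 57 [0, -4, 0,
    4]] (.kill [.x 58 [-4, 0, 0, 4]] (.kill [.x 42 [0, 0, -4, 4]] (.kill [.x 43 [0, 0, -4, 4]] (.kill [.x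
    50 [0, 0, -4, 4]] (.goto [.n 0, .n 2, .n 3] 6))))))) (.kill [.x 37 [0, 0, -4, 4]] (.kill [.x 57 [0,
    -4, 0, 4]] (.kill [.x 42 [0, 0, -4, 4]] (.kill [.x 59 [-4, 0, 0, 4]] (.kill [.x 44 [0, 0, -4, 4]]
    (.kill [.x 51 [0, 0, -4, 4]] (.goto [.n 0, .n 2, .n 4, .n 3] 6)))))))) (.split (.split (.kill [.x 42
    [0, 0, -4, 4]] (.kill [.x 58 [-4, 0, 0, 4]] (.kill [.x 59 [-4, 0, 0, 4]] (.kill [.x 45 [0, 0, -4, 4]]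
    (.kill [.x 52 [0, 0, -4, 4]] (.bad 72)))))) (.kill [.x 42 [0, 0, -4, 0, 4]] (.kill [.x 58 [-4, 0, 0,
    0, 4]] (.kill [.x 59 [-4, 0, 0, 0, 4]] (.kill [.x 43 [0, 0, 0, -4, 4]] (.kill [.x 50 [0, 0, 0, -4, 4]]
    (.bad 72))))))) (.kill [.x 37 [0, 0, 0, -4, 4]] (.kill [.x 42 [0, 0, -4, 0, 4]] (.kill [.x 58 [-4, 0,
    0, 0, 4]] (.kill [.x 59 [-4, 0, 0, 0, 4]] (.kill [.x 44 [0, 0, 0, -4, 4]] (.kill [.x 51 [0, 0, 0, -4,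
    4]] (.bad 72)))))))))) (.kill [.x 56 [-4, 0, 0, 4]] (.split (.split (.kill [.x 41 [0, 0, -4, 4]]
    (.kill [.x 43 [0, 0, -4, 4]] (.kill [.x 58 [-4, 0, 0, 4]] (.kill [.x 45 [0, 0, -4, 4]] (.kill [.x 60
    [0, -4, 0, 4]] (.kill [.x 54 [0, 0, -4, 4]] (.goto [.n 0, .n 3, .n 2, .n 5, .n 4, .n 3] 6)))))))
    (.kill [.x 37 [0, 0, 0, -4, 4]] (.kill [.x 43 [0, 0, -4, 0, 4]] (.kill [.x 42 [0, 0, 0, -4, 4]] (.kill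
    [.x 45 [0, 0, -4, 0, 4]] (.kill [.x 44 [0, 0, 0, -4, 4]] (.kill [.x 51 [0, 0, 0, -4, 4]] (.goto []
    3)))))))) (.split (.kill [.x 41 [0, 0, -4, 0, 4]] (.kill [.x 42 [0, 0, 0, -4, 4]] (.kill [.x 58 [-4,
    0, 0, 0, 4]] (.kill [.x 45 [0, 0, -4, 0, 4]] (.kill [.x 60 [0, -4, 0, 0, 4]] (.kill [.x 52 [0, 0, 0,
    -4, 4]] (.bad 72))))))) (.kill [.x 37 [0, 0, 0, 0, -4, 4]] (.kill [.x 42 [0, 0, 0, -4, 0, 4]] (.kill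
    [.x 58 [-4, 0, 0, 0, 0, 4]] (.kill [.x 45 [0, 0, -4, 0, 0, 4]] (.kill [.x 44 [0, 0, 0, 0, -4, 4]]
    (.kill [.x 51 [0, 0, 0, 0, -4, 4]] (.bad 72))))))))))) (.kill [.x 37 [0, 0, -4, 4]] (.kill [.x 56 [-4,
    0, 0, 4]] (.split (.kill [.x 41 [0, 0, -4, 4]] (.split (.kill [.x 44 [0, 0, -4, 4]] (.kill [.x 45 [0,
    0, -4, 4]] (.kill [.x 59 [-4, 0, 0, 4]] (.kill [.x 60 [0, -4, 0, 4]] (.kill [.x 55 [0, 0, -4, 4]]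
    (.goto [.n 0, .n 4, .n 3, .n 2, .n 5, .n 4, .n 3] 6)))))) (.kill [.x 44 [0, 0, -4, 0, 4]] (.kill [.x
    45 [0, 0, -4, 0, 4]] (.kill [.x 42 [0, 0, 0, -4, 4]] (.kill [.x 43 [0, 0, 0, -4, 4]] (.kill [.x 50 [0,
    0, 0, -4, 4]] (.goto [.n 4] 3)))))))) (.kill [.x 41 [0, 0, -4, 0, 4]] (.split (.kill [.x 42 [0, 0, 0,
    -4, 4]] (.kill [.x 45 [0, 0, -4, 0, 4]] (.kill [.x 59 [-4, 0, 0, 0, 4]] (.kill [.x 60 [0, -4, 0, 0,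
    4]] (.kill [.x 52 [0, 0, 0, -4, 4]] (.bad 72)))))) (.kill [.x 42 [0, 0, 0, -4, 0, 4]] (.kill [.x 45
    [0, 0, -4, 0, 0, 4]] (.kill [.x 59 [-4, 0, 0, 0, 0, 4]] (.kill [.x 43 [0, 0, 0, 0, -4, 4]] (.kill [.x
    50 [0, 0, 0, 0, -4, 4]] (.bad 72)))))))))))) (.split (.split (.kill [.x 46 [0, 0, -4, 4]] (.split
    (.kill [.x 47 [0, 0, -4, 4]] (.kill [.x 48 [0, 0, -4, 4]] (.kill [.x 57 [0, -4, 0, 4]] (.kill [.x 50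
    [0, 0, -4, 4]] (.kill [.x 51 [0, 0, -4, 4]] (.kill [.x 53 [0, 0, -4, 4]] (.bad 71))))))) (.kill [.x 47
    [0, 0, -4, 0, 4]] (.kill [.x 48 [0, 0, -4, 0, 4]] (.kill [.x 42 [0, 0, 0, -4, 4]] (.kill [.x 50 [0, 0,
    -4, 0, 4]] (.kill [.x 51 [0, 0, -4, 0, 4]] (.kill [.x 45 [0, 0, 0, -4, 4]] (.bad 71))))))))) (.kill
    [.x 46 [0, 0, -4, 0, 4]] (.split (.kill [.x 47 [0, 0, -4, 0, 4]] (.kill [.x 41 [0, 0, 0, -4, 4]]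
    (.kill [.x 43 [0, 0, 0, -4, 4]] (.kill [.x 50 [0, 0, -4, 0, 4]] (.kill [.x 45 [0, 0, 0, -4, 4]] (.kill
    [.x 53 [0, 0, -4, 0, 4]] (.bad 71))))))) (.kill [.x 47 [0, 0, -4, 0, 0, 4]] (.kill [.x 41 [0, 0, 0,
    -4, 0, 4]] (.kill [.x 42 [0, 0, 0, 0, -4, 4]] (.kill [.x 50 [0, 0, -4, 0, 0, 4]] (.kill [.x 45 [0, 0,
    0, -4, 0, 4]] (.kill [.x 53 [0, 0, -4, 0, 0, 4]] (.bad 71)))))))))) (.kill [.x 37 [0, 0, 0, -4, 4]]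
    (.kill [.x 46 [0, 0, -4, 0, 4]] (.split (.kill [.x 41 [0, 0, 0, -4, 4]] (.kill [.x 48 [0, 0, -4, 0,
    4]] (.kill [.x 44 [0, 0, 0, -4, 4]] (.kill [.x 45 [0, 0, 0, -4, 4]] (.kill [.x 51 [0, 0, -4, 0, 4]]
    (.kill [.x 53 [0, 0, -4, 0, 4]] (.bad 71))))))) (.kill [.x 41 [0, 0, 0, -4, 0, 4]] (.kill [.x 48 [0,
    0, -4, 0, 0, 4]] (.kill [.x 42 [0, 0, 0, 0, -4, 4]] (.kill [.x 45 [0, 0, 0, -4, 0, 4]] (.kill [.x 51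
    [0, 0, -4, 0, 0, 4]] (.kill [.x 53 [0, 0, -4, 0, 0, 4]] (.bad 71)))))))))))) (.split (.split (.kill
    [.x 46 [0, 0, -4, 4]] (.kill [.x 56 [-4, 0, 0, 4]] (.kill [.x 47 [0, 0, -4, 4]] (.split (.kill [.x 49
    [0, 0, -4, 4]] (.kill [.x 50 [0, 0, -4, 4]] (.kill [.x 58 [-4, 0, 0, 4]] (.kill [.x 52 [0, 0, -4, 4]]
    (.bad 70))))) (.kill [.x 37 [0, 0, 0, -4, 4]] (.kill [.x 50 [0, 0, -4, 0, 4]] (.kill [.x 42 [0, 0, 0,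
    -4, 4]] (.kill [.x 52 [0, 0, -4, 0, 4]] (.bad 70))))))))) (.kill [.x 37 [0, 0, 0, -4, 4]] (.kill [.x
    56 [-4, 0, 0, 0, 4]] (.kill [.x 47 [0, 0, -4, 0, 4]] (.kill [.x 41 [0, 0, 0, -4, 4]] (.kill [.x 49 [0,
    0, -4, 0, 4]] (.kill [.x 44 [0, 0, 0, -4, 4]] (.kill [.x 45 [0, 0, 0, -4, 4]] (.kill [.x 52 [0, 0, -4,
    0, 4]] (.bad 70)))))))))) (.split (.kill [.x 46 [0, 0, -4, 0, 4]] (.kill [.x 56 [-4, 0, 0, 0, 4]]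
    (.kill [.x 47 [0, 0, -4, 0, 4]] (.split (.kill [.x 48 [0, 0, 0, -4, 4]] (.kill [.x 50 [0, 0, -4, 0,
    4]] (.kill [.x 58 [-4, 0, 0, 0, 4]] (.kill [.x 51 [0, 0, 0, -4, 4]] (.bad 70))))) (.kill [.x 37 [0, 0,
    0, 0, -4, 4]] (.kill [.x 50 [0, 0, -4, 0, 0, 4]] (.kill [.x 42 [0, 0, 0, 0, -4, 4]] (.kill [.x 51 [0,
    0, 0, -4, 0, 4]] (.bad 70))))))))) (.kill [.x 37 [0, 0, 0, 0, -4, 4]] (.kill [.x 56 [-4, 0, 0, 0, 0,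
    4]] (.kill [.x 47 [0, 0, -4, 0, 0, 4]] (.kill [.x 41 [0, 0, 0, 0, -4, 4]] (.kill [.x 48 [0, 0, 0, -4,
    0, 4]] (.kill [.x 44 [0, 0, 0, 0, -4, 4]] (.kill [.x 45 [0, 0, 0, 0, -4, 4]] (.kill [.x 51 [0, 0, 0,
    -4, 0, 4]] (.bad 70)))))))))))) (.kill [.x 37 [0, 0, -4, 4]] (.split (.kill [.x 46 [0, 0, -4, 4]]
    (.split (.kill [.x 56 [-4, 0, 0, 4]] (.kill [.x 48 [0, 0, -4, 4]] (.kill [.x 49 [0, 0, -4, 4]] (.split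
    (.kill [.x 51 [0, 0, -4, 4]] (.kill [.x 52 [0, 0, -4, 4]] (.bad 69))) (.kill [.x 51 [0, 0, -4, 0, 4]]
    (.kill [.x 52 [0, 0, -4, 0, 4]] (.bad 69))))))) (.kill [.x 56 [-4, 0, 0, 0, 4]] (.kill [.x 48 [0, 0,
    -4, 0, 4]] (.kill [.x 49 [0, 0, -4, 0, 4]] (.kill [.x 41 [0, 0, 0, -4, 4]] (.kill [.x 43 [0, 0, 0, -4,
    4]] (.kill [.x 52 [0, 0, -4, 0, 4]] (.bad 69))))))))) (.kill [.x 46 [0, 0, -4, 0, 4]] (.split (.kill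
    [.x 56 [-4, 0, 0, 0, 4]] (.kill [.x 48 [0, 0, -4, 0, 4]] (.kill [.x 47 [0, 0, 0, -4, 4]] (.split
    (.kill [.x 51 [0, 0, -4, 0, 4]] (.kill [.x 50 [0, 0, 0, -4, 4]] (.bad 69))) (.kill [.x 51 [0, 0, -4,
    0, 0, 4]] (.kill [.x 50 [0, 0, 0, -4, 0, 4]] (.bad 69))))))) (.kill [.x 56 [-4, 0, 0, 0, 0, 4]] (.kill
    [.x 48 [0, 0, -4, 0, 0, 4]] (.kill [.x 47 [0, 0, 0, -4, 0, 4]] (.kill [.x 41 [0, 0, 0, 0, -4, 4]]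
    (.kill [.x 43 [0, 0, 0, 0, -4, 4]] (.kill [.x 50 [0, 0, 0, -4, 0, 4]] (.bad 69)))))))))))) (.split
    (.split (.kill [.x 41 [0, 0, -4, 4]] (.kill [.x 47 [0, 0, -4, 4]] (.kill [.x 48 [0, 0, -4, 4]] (.kill
    [.x 49 [0, 0, -4, 4]] (.split (.split (.split (.kill [.x 53 [0, 0, -4, 4]] (.bad 68)) (.kill [.x 53
    [0, 0, -4, 0, 4]] (.bad 68))) (.kill [.x 37 [0, 0, 0, -4, 4]] (.kill [.x 53 [0, 0, -4, 0, 4]] (.bad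
    68)))) (.split (.split (.kill [.x 42 [0, 0, 0, -4, 4]] (.bad 68)) (.kill [.x 42 [0, 0, 0, -4, 0, 4]]
    (.bad 68))) (.kill [.x 37 [0, 0, 0, 0, -4, 4]] (.kill [.x 42 [0, 0, 0, -4, 0, 4]] (.bad 68)))))))))
    (.kill [.x 41 [0, 0, -4, 0, 4]] (.kill [.x 47 [0, 0, -4, 0, 4]] (.kill [.x 46 [0, 0, 0, -4, 4]] (.kill
    [.x 49 [0, 0, -4, 0, 4]] (.split (.split (.split (.kill [.x 50 [0, 0, 0, -4, 4]] (.bad 68)) (.kill [.x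
    50 [0, 0, 0, -4, 0, 4]] (.bad 68))) (.kill [.x 37 [0, 0, 0, 0, -4, 4]] (.kill [.x 50 [0, 0, 0, -4, 0,
    4]] (.bad 68)))) (.split (.split (.kill [.x 42 [0, 0, 0, 0, -4, 4]] (.bad 68)) (.kill [.x 42 [0, 0, 0,
    0, -4, 0, 4]] (.bad 68))) (.kill [.x 37 [0, 0, 0, 0, 0, -4, 4]] (.kill [.x 42 [0, 0, 0, 0, -4, 0, 4]]
    (.bad 68)))))))))) (.kill [.x 37 [0, 0, 0, -4, 4]] (.kill [.x 41 [0, 0, -4, 0, 4]] (.kill [.x 46 [0,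
    0, 0, -4, 4]] (.kill [.x 48 [0, 0, -4, 0, 4]] (.kill [.x 49 [0, 0, -4, 0, 4]] (.split (.split (.split
    (.kill [.x 51 [0, 0, 0, -4, 4]] (.bad 68)) (.kill [.x 51 [0, 0, 0, -4, 0, 4]] (.bad 68))) (.split
    (.kill [.x 51 [0, 0, 0, -4, 0, 4]] (.bad 68)) (.kill [.x 51 [0, 0, 0, -4, 0, 0, 4]] (.bad 68))))
    (.split (.split (.kill [.x 42 [0, 0, 0, 0, -4, 4]] (.bad 68)) (.kill [.x 42 [0, 0, 0, 0, -4, 0, 4]]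
    (.bad 68))) (.split (.kill [.x 42 [0, 0, 0, 0, -4, 0, 4]] (.bad 68)) (.kill [.x 42 [0, 0, 0, 0, -4, 0,
    0, 4]] (.bad 68)))))))))))) (.kill [.x 42 [0, 0, -4, 4]] (.kill [.x 43 [0, 0, -4, 4]] (.kill [.x 44
    [0, 0, -4, 4]] (.kill [.x 45 [0, 0, -4, 4]] (.kill [.x 50 [0, 0, -4, 4]] (.kill [.x 51 [0, 0, -4, 4]]
    (.kill [.x 52 [0, 0, -4, 4]] (.bad 64))))))))

/-- The search at the pattern `[45, 49]` from `56` on. -/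
def tree10 : Tree :=
  .split (.split (.split (.split (.kill [.x 56 [-4, 0, 4]] (.split (.split (.kill [.x 57 [0, -4, 4]]
    (.split (.kill [.x 58 [0, -4, 4]] (.kill [.x 59 [0, -4, 4]] (.split (.kill [.x 61 [-4, 0, 4]] (.kill
    [.x 62 [-4, 0, 4]] (.kill [.x 64 [-4, 0, 4]] (.kill [.x 67 [0, -4, 4]] (.goto [.n 0, .n 2, .n 3, .n 1,
    .n 4, .n 3, .n 2, .n 0] 4))))) (.kill [.x 36 [0, 0, -4, 4]] (.kill [.x 38 [0, 0, -4, 4]] (.kill [.x 41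
    [0, 0, -4, 4]] (.kill [.x 49 [0, 0, -4, 4]] (.bad 72)))))))) (.kill [.x 36 [0, 0, -4, 4]] (.kill [.x
    38 [0, 0, -4, 4]] (.split (.kill [.x 61 [-4, 0, 0, 4]] (.kill [.x 62 [-4, 0, 0, 4]] (.kill [.x 45 [0,
    0, -4, 4]] (.bad 71)))) (.kill [.x 61 [-4, 0, 0, 0, 4]] (.kill [.x 62 [-4, 0, 0, 0, 4]] (.kill [.x 41
    [0, 0, 0, -4, 4]] (.bad 71))))))))) (.kill [.x 36 [0, 0, -4, 4]] (.kill [.x 39 [0, 0, -4, 4]] (.kill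
    [.x 58 [0, -4, 0, 4]] (.kill [.x 41 [0, 0, -4, 4]] (.split (.kill [.x 61 [-4, 0, 0, 4]] (.kill [.x 45
    [0, 0, -4, 4]] (.bad 70))) (.kill [.x 61 [-4, 0, 0, 0, 4]] (.kill [.x 38 [0, 0, 0, -4, 4]] (.bad
    70))))))))) (.kill [.x 37 [0, 0, -4, 4]] (.kill [.x 38 [0, 0, -4, 4]] (.kill [.x 40 [0, 0, -4, 4]]
    (.kill [.x 41 [0, 0, -4, 4]] (.kill [.x 59 [0, -4, 0, 4]] (.split (.kill [.x 45 [0, 0, -4, 4]] (.bad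
    69)) (.kill [.x 36 [0, 0, 0, -4, 4]] (.bad 69)))))))))) (.kill [.x 36 [0, 0, -4, 4]] (.split (.split
    (.kill [.x 57 [0, -4, 0, 4]] (.split (.kill [.x 58 [0, -4, 0, 4]] (.kill [.x 49 [0, 0, -4, 4]] (.bad
    67))) (.kill [.x 58 [0, -4, 0, 0, 4]] (.kill [.x 38 [0, 0, 0, -4, 4]] (.bad 67))))) (.kill [.x 57 [0,
    -4, 0, 0, 4]] (.kill [.x 39 [0, 0, 0, -4, 4]] (.kill [.x 58 [0, -4, 0, 0, 4]] (.kill [.x 41 [0, 0, 0,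
    -4, 4]] (.bad 67)))))) (.kill [.x 37 [0, 0, 0, -4, 4]] (.kill [.x 38 [0, 0, 0, -4, 4]] (.kill [.x 40
    [0, 0, 0, -4, 4]] (.kill [.x 41 [0, 0, 0, -4, 4]] (.kill [.x 49 [0, 0, -4, 0, 4]] (.bad 67)))))))))
    (.kill [.x 37 [0, 0, -4, 4]] (.kill [.x 38 [0, 0, -4, 4]] (.split (.split (.kill [.x 57 [0, -4, 0, 4]]
    (.split (.kill [.x 49 [0, 0, -4, 4]] (.bad 66)) (.kill [.x 36 [0, 0, 0, -4, 4]] (.bad 66)))) (.kill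
    [.x 36 [0, 0, 0, -4, 4]] (.kill [.x 39 [0, 0, 0, -4, 4]] (.kill [.x 49 [0, 0, -4, 0, 4]] (.bad 66)))))
    (.split (.kill [.x 57 [0, -4, 0, 0, 4]] (.kill [.x 40 [0, 0, 0, -4, 4]] (.kill [.x 41 [0, 0, 0, -4,
    4]] (.bad 66)))) (.kill [.x 36 [0, 0, 0, 0, -4, 4]] (.kill [.x 39 [0, 0, 0, 0, -4, 4]] (.kill [.x 41
    [0, 0, 0, -4, 0, 4]] (.bad 66))))))))) (.kill [.x 39 [0, 0, -4, 4]] (.kill [.x 40 [0, 0, -4, 4]]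
    (.kill [.x 41 [0, 0, -4, 4]] (.split (.split (.kill [.x 49 [0, 0, -4, 4]] (.bad 64)) (.kill [.x 36 [0,
    0, 0, -4, 4]] (.bad 64))) (.kill [.x 37 [0, 0, 0, -4, 4]] (.kill [.x 38 [0, 0, 0, -4, 4]] (.bad
    64)))))))) (.split (.split (.split (.kill [.x 45 [0, 0, -4, 4]] (.bad 61)) (.kill [.x 36 [0, 0, 0, -4,
    4]] (.bad 61))) (.kill [.x 37 [0, 0, 0, -4, 4]] (.kill [.x 38 [0, 0, 0, -4, 4]] (.bad 61)))) (.kill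
    [.x 39 [0, 0, 0, -4, 4]] (.kill [.x 40 [0, 0, 0, -4, 4]] (.kill [.x 41 [0, 0, 0, -4, 4]] (.bad 61)))))

/-- The search at the pattern `[45, 49, 53]` from `56` on. -/
def tree11 : Tree :=
  .split (.split (.split (.split (.kill [.x 56 [-4, 0, 0, 4]] (.split (.split (.kill [.x 57 [0, -4, 0, 4]]
    (.split (.kill [.x 58 [0, -4, 0, 4]] (.kill [.x 59 [0, -4, 0, 4]] (.split (.kill [.x 61 [-4, 0, 0, 4]]
    (.kill [.x 62 [-4, 0, 0, 4]] (.kill [.x 60 [0, 0, -4, 4]] (.kill [.x 63 [0, 0, -4, 4]] (.goto [.n 0,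
    .n 2, .n 3, .n 1, .n 4, .n 3] 4))))) (.kill [.x 61 [-4, 0, 0, 0, 4]] (.kill [.x 62 [-4, 0, 0, 0, 4]]
    (.kill [.x 41 [0, 0, 0, -4, 4]] (.kill [.x 49 [0, 0, 0, -4, 4]] (.bad 72)))))))) (.kill [.x 58 [0, -4,
    0, 0, 4]] (.kill [.x 59 [0, -4, 0, 0, 4]] (.split (.kill [.x 61 [-4, 0, 0, 0, 4]] (.kill [.x 62 [-4,
    0, 0, 0, 4]] (.kill [.x 45 [0, 0, 0, -4, 4]] (.bad 71)))) (.kill [.x 61 [-4, 0, 0, 0, 0, 4]] (.kill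
    [.x 62 [-4, 0, 0, 0, 0, 4]] (.kill [.x 41 [0, 0, 0, 0, -4, 4]] (.bad 71))))))))) (.kill [.x 57 [0, -4,
    0, 0, 4]] (.kill [.x 39 [0, 0, 0, -4, 4]] (.kill [.x 58 [0, -4, 0, 0, 4]] (.kill [.x 41 [0, 0, 0, -4,
    4]] (.split (.kill [.x 61 [-4, 0, 0, 0, 4]] (.kill [.x 45 [0, 0, 0, -4, 4]] (.bad 70))) (.kill [.x 61
    [-4, 0, 0, 0, 0, 4]] (.kill [.x 45 [0, 0, 0, -4, 0, 4]] (.bad 70))))))))) (.kill [.x 37 [0, 0, 0, -4,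
    4]] (.kill [.x 57 [0, -4, 0, 0, 4]] (.kill [.x 40 [0, 0, 0, -4, 4]] (.kill [.x 41 [0, 0, 0, -4, 4]]
    (.kill [.x 59 [0, -4, 0, 0, 4]] (.split (.kill [.x 45 [0, 0, 0, -4, 4]] (.bad 69)) (.kill [.x 45 [0,
    0, 0, -4, 0, 4]] (.bad 69)))))))))) (.kill [.x 56 [-4, 0, 0, 0, 4]] (.split (.split (.kill [.x 57 [0,
    -4, 0, 0, 4]] (.split (.kill [.x 58 [0, -4, 0, 0, 4]] (.kill [.x 49 [0, 0, 0, -4, 4]] (.bad 67)))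
    (.kill [.x 58 [0, -4, 0, 0, 0, 4]] (.kill [.x 49 [0, 0, 0, -4, 0, 4]] (.bad 67))))) (.kill [.x 57 [0,
    -4, 0, 0, 0, 4]] (.kill [.x 39 [0, 0, 0, 0, -4, 4]] (.kill [.x 58 [0, -4, 0, 0, 0, 4]] (.kill [.x 41
    [0, 0, 0, 0, -4, 4]] (.bad 67)))))) (.kill [.x 37 [0, 0, 0, 0, -4, 4]] (.kill [.x 57 [0, -4, 0, 0, 0,
    4]] (.kill [.x 40 [0, 0, 0, 0, -4, 4]] (.kill [.x 41 [0, 0, 0, 0, -4, 4]] (.kill [.x 49 [0, 0, 0, -4,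
    0, 4]] (.bad 67))))))))) (.kill [.x 37 [0, 0, 0, -4, 4]] (.kill [.x 56 [-4, 0, 0, 0, 4]] (.split
    (.split (.kill [.x 57 [0, -4, 0, 0, 4]] (.split (.kill [.x 49 [0, 0, 0, -4, 4]] (.bad 66)) (.kill [.x
    49 [0, 0, 0, -4, 0, 4]] (.bad 66)))) (.kill [.x 57 [0, -4, 0, 0, 0, 4]] (.kill [.x 39 [0, 0, 0, 0, -4,
    4]] (.kill [.x 49 [0, 0, 0, -4, 0, 4]] (.bad 66))))) (.split (.kill [.x 57 [0, -4, 0, 0, 0, 4]] (.kill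
    [.x 40 [0, 0, 0, 0, -4, 4]] (.kill [.x 41 [0, 0, 0, 0, -4, 4]] (.bad 66)))) (.kill [.x 57 [0, -4, 0,
    0, 0, 0, 4]] (.kill [.x 39 [0, 0, 0, 0, 0, -4, 4]] (.kill [.x 41 [0, 0, 0, 0, -4, 0, 4]] (.bad
    66))))))))) (.kill [.x 39 [0, 0, 0, -4, 4]] (.kill [.x 40 [0, 0, 0, -4, 4]] (.kill [.x 41 [0, 0, 0,
    -4, 4]] (.split (.split (.kill [.x 49 [0, 0, 0, -4, 4]] (.bad 64)) (.kill [.x 49 [0, 0, 0, -4, 0, 4]]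
    (.bad 64))) (.kill [.x 37 [0, 0, 0, 0, -4, 4]] (.kill [.x 49 [0, 0, 0, -4, 0, 4]] (.bad 64))))))))
    (.split (.split (.split (.kill [.x 45 [0, 0, 0, -4, 4]] (.bad 61)) (.kill [.x 45 [0, 0, 0, -4, 0, 4]]
    (.bad 61))) (.kill [.x 37 [0, 0, 0, 0, -4, 4]] (.kill [.x 45 [0, 0, 0, -4, 0, 4]] (.bad 61)))) (.kill
    [.x 39 [0, 0, 0, 0, -4, 4]] (.kill [.x 40 [0, 0, 0, 0, -4, 4]] (.kill [.x 41 [0, 0, 0, 0, -4, 4]]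
    (.bad 61)))))

/-- The search at the pattern `[41, 44, 48, 52]` from `56` on. -/
def tree12 : Tree :=
  .split (.split (.split (.kill [.x 56 [0, -4, 0, 0, 4]] (.kill [.x 57 [-4, 0, 0, 0, 4]] (.split (.split
    (.split (.kill [.x 58 [0, 0, -4, 0, 4]] (.kill [.x 61 [-4, 0, 0, 0, 4]] (.kill [.x 60 [0, 0, -4, 0,
    4]] (.split (.split (.kill [.x 59 [0, 0, 0, -4, 4]] (.kill [.x 65 [0, -4, 0, 0, 4]] (.kill [.x 64 [0,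
    0, 0, -4, 4]] (.goto [.n 0, .n 2, .n 3, .n 1] 0)))) (.kill [.x 37 [0, 0, 0, 0, -4, 4]] (.kill [.x 65
    [0, -4, 0, 0, 0, 4]] (.kill [.x 48 [0, 0, 0, 0, -4, 4]] (.bad 72))))) (.split (.kill [.x 38 [0, 0, 0,
    0, -4, 4]] (.kill [.x 41 [0, 0, 0, 0, -4, 4]] (.bad 71))) (.kill [.x 37 [0, 0, 0, 0, 0, -4, 4]] (.kill
    [.x 41 [0, 0, 0, 0, -4, 0, 4]] (.bad 71)))))))) (.kill [.x 58 [0, 0, -4, 0, 0, 4]] (.kill [.x 61 [-4,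
    0, 0, 0, 0, 4]] (.kill [.x 60 [0, 0, -4, 0, 0, 4]] (.split (.split (.kill [.x 44 [0, 0, 0, 0, -4, 4]]
    (.bad 70)) (.kill [.x 37 [0, 0, 0, 0, 0, -4, 4]] (.bad 70))) (.split (.kill [.x 38 [0, 0, 0, 0, 0, -4,
    4]] (.bad 70)) (.kill [.x 37 [0, 0, 0, 0, 0, 0, -4, 4]] (.bad 70)))))))) (.split (.kill [.x 58 [0, 0,
    -4, 0, 0, 4]] (.kill [.x 61 [-4, 0, 0, 0, 0, 4]] (.kill [.x 41 [0, 0, 0, 0, -4, 4]] (.bad 67))))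
    (.kill [.x 58 [0, 0, -4, 0, 0, 0, 4]] (.kill [.x 61 [-4, 0, 0, 0, 0, 0, 4]] (.kill [.x 41 [0, 0, 0, 0,
    -4, 0, 4]] (.bad 67)))))) (.kill [.x 37 [0, 0, 0, 0, -4, 4]] (.kill [.x 38 [0, 0, 0, 0, -4, 4]] (.kill
    [.x 58 [0, 0, -4, 0, 0, 4]] (.kill [.x 41 [0, 0, 0, 0, -4, 4]] (.bad 66)))))))) (.kill [.x 37 [0, 0,
    0, 0, -4, 4]] (.kill [.x 38 [0, 0, 0, 0, -4, 4]] (.split (.split (.split (.kill [.x 48 [0, 0, 0, 0,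
    -4, 4]] (.bad 65)) (.kill [.x 48 [0, 0, 0, 0, -4, 0, 4]] (.bad 65))) (.split (.kill [.x 48 [0, 0, 0,
    0, -4, 0, 4]] (.bad 65)) (.kill [.x 48 [0, 0, 0, 0, -4, 0, 0, 4]] (.bad 65)))) (.split (.split (.kill
    [.x 48 [0, 0, 0, 0, -4, 0, 4]] (.bad 65)) (.kill [.x 48 [0, 0, 0, 0, -4, 0, 0, 4]] (.bad 65))) (.split
    (.kill [.x 48 [0, 0, 0, 0, -4, 0, 0, 4]] (.bad 65)) (.kill [.x 48 [0, 0, 0, 0, -4, 0, 0, 0, 4]] (.bad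
    65)))))))) (.split (.kill [.x 56 [0, -4, 0, 0, 0, 4]] (.kill [.x 41 [0, 0, 0, 0, -4, 4]] (.bad 61)))
    (.kill [.x 37 [0, 0, 0, 0, 0, -4, 4]] (.kill [.x 38 [0, 0, 0, 0, 0, -4, 4]] (.bad 61))))) (.split
    (.split (.kill [.x 44 [0, 0, 0, 0, -4, 4]] (.bad 60)) (.kill [.x 37 [0, 0, 0, 0, 0, -4, 4]] (.bad
    60))) (.split (.kill [.x 44 [0, 0, 0, 0, -4, 0, 4]] (.bad 60)) (.kill [.x 37 [0, 0, 0, 0, 0, 0, -4,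
    4]] (.bad 60))))

/-- The search at the pattern `[52, 53, 62, 65]` from `72` on. -/
def tree13 : Tree :=
  .goto [.n 1, .n 2, .n 0, .n 3, .n 2, .n 0, .n 4, .x 38 [2, -2, -2, 2], .x 39 [0, 0, 4, 0], .x 40 [-2,
    -2, 2, 2], .x 51 [-2, 2, -2, 2], .n 0, .n 1, .n 2, .n 4, .n 3, .n 1, .n 2, .n 0, .n 3, .n 2, .n 5, .n
    4, .n 3] 2

/-- The search at the pattern `[71]` from `72` on. -/
def tree14 : Tree :=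
  .fin [.h 1 [-4]] 0

/-- The search at the pattern `[66, 68]` from `72` on. -/
def tree15 : Tree :=
  .fin [.h 0 [-4, 0], .h 5 [0, -4]] 1

/-- The search at the pattern `[55, 65, 67]` from `72` on. -/
def tree16 : Tree :=
  .fin [.h 2 [0, 0, -4], .h 3 [-4, -4, -4], .h 4 [-4, 0, 0]] 2

/-- The search at the pattern `[]` from `72` on. -/
def tree17 : Tree :=
  .triv

/-- All searches. -/
def table : List (List ℕ × ℕ × Tree) :=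
  [([], 36, tree0), ([], 42, tree1), ([41], 42, tree2), ([38, 40], 42, tree3), ([], 46, tree4), ([45], 46,
    tree5), ([41, 44], 46, tree6), ([], 56, tree7), ([55], 56, tree8), ([52, 53], 56, tree9), ([45, 49],
    56, tree10), ([45, 49, 53], 56, tree11), ([41, 44, 48, 52], 56, tree12), ([52, 53, 62, 65], 72,
    tree13), ([71], 72, tree14), ([66, 68], 72, tree15), ([55, 65, 67], 72, tree16), ([], 72, tree17)]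

/-- The representatives. -/
def reps : List (List ℕ) := [[71], [66, 68], [55, 65, 67]]

end CfsgLib.UniInvol.E6
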