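import Cfsg.Agent.UniInvol.Calc

/-!
# Certificates for the involutions of `F4` in characteristic two

Printed by a search program; checked by the kernel where used.
-/

set_option autoImplicit false

namespace CfsgLib.UniInvol.F4

open CfsgLib.Chevalley

/-- The commutator terms with odd coefficient. -/
def commRows : List (List (ℕ × List (ℕ × ℕ × ℕ))) :=
  [[], [], [], [], [], [], [], [], [], [], [], [], [], [], [], [], [], [], [], [], [], [], [], [], [(25,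
    [(26, 1, 1)]), (28, [(29, 1, 1), (32, 1, 2)]), (30, [(31, 1, 1)]), (35, [(36, 1, 1), (43, 1, 2)]),
    (37, [(38, 1, 1), (45, 1, 2)]), (41, [(42, 1, 1)]), (46, [(47, 1, 1)])], [(24, [(26, 1, 1)]), (27,
    [(28, 1, 1), (30, 1, 2)]), (31, [(32, 1, 1)]), (34, [(35, 1, 1), (41, 1, 2)]), (38, [(39, 1, 1), (47,
    1, 2)]), (42, [(43, 1, 1)]), (45, [(46, 1, 1)])], [(27, [(29, 1, 1), (31, 1, 2)]), (30, [(32, 1, 1)]),
    (34, [(36, 1, 1), (42, 1, 2)]), (37, [(39, 1, 1), (46, 1, 2)]), (41, [(43, 1, 1)]), (45, [(47, 1,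
    1)])], [(25, [(28, 1, 1), (30, 2, 1)]), (26, [(29, 1, 1), (31, 2, 1)]), (33, [(34, 1, 1)]), (35, [(37,
    1, 1)]), (36, [(38, 1, 1)]), (39, [(40, 1, 1)]), (43, [(44, 1, 1), (45, 2, 1)])], [(24, [(29, 1, 1),
    (32, 2, 1)]), (33, [(35, 1, 1)]), (34, [(37, 1, 1)]), (36, [(39, 1, 1)]), (38, [(40, 1, 1)]), (42,
    [(44, 1, 1), (46, 2, 1)])], [(33, [(36, 1, 1)]), (34, [(38, 1, 1)]), (35, [(39, 1, 1)]), (37, [(40, 1,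
    1)]), (41, [(44, 1, 1), (47, 2, 1)])], [(24, [(31, 1, 1)]), (26, [(32, 1, 1)]), (33, [(37, 1, 1), (41,
    1, 2)]), (36, [(40, 1, 1), (47, 1, 2)]), (42, [(45, 1, 1)]), (43, [(46, 1, 1)])], [(25, [(32, 1, 1)]),
    (33, [(38, 1, 1), (42, 1, 2)]), (35, [(40, 1, 1), (46, 1, 2)]), (41, [(45, 1, 1)]), (43, [(47, 1,
    1)])], [(33, [(39, 1, 1), (43, 1, 2)]), (34, [(40, 1, 1), (45, 1, 2)]), (41, [(46, 1, 1)]), (42, [(47,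
    1, 1)])], [(27, [(34, 1, 1)]), (28, [(35, 1, 1)]), (29, [(36, 1, 1)]), (30, [(37, 1, 1), (41, 2, 1)]),
    (31, [(38, 1, 1), (42, 2, 1)]), (32, [(39, 1, 1), (43, 2, 1)]), (40, [(44, 1, 1)])], [(25, [(35, 1,
    1), (41, 2, 1)]), (26, [(36, 1, 1), (42, 2, 1)]), (28, [(37, 1, 1)]), (29, [(38, 1, 1)]), (32, [(40,
    1, 1), (45, 2, 1)]), (39, [(44, 1, 1)])], [(24, [(36, 1, 1), (43, 2, 1)]), (27, [(37, 1, 1)]), (29,
    [(39, 1, 1)]), (31, [(40, 1, 1), (46, 2, 1)]), (38, [(44, 1, 1)])], [(27, [(38, 1, 1)]), (28, [(39, 1,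
    1)]), (30, [(40, 1, 1), (47, 2, 1)]), (37, [(44, 1, 1)])], [(24, [(38, 1, 1), (45, 2, 1)]), (26, [(39,
    1, 1), (46, 2, 1)]), (29, [(40, 1, 1)]), (36, [(44, 1, 1)])], [(25, [(39, 1, 1), (47, 2, 1)]), (28,
    [(40, 1, 1)]), (35, [(44, 1, 1)])], [(27, [(40, 1, 1)]), (34, [(44, 1, 1)])], [(33, [(44, 1, 1)])],
    [(24, [(42, 1, 1)]), (26, [(43, 1, 1)]), (29, [(44, 1, 1), (47, 1, 2)]), (31, [(45, 1, 1)]), (32,
    [(46, 1, 1)])], [(25, [(43, 1, 1)]), (28, [(44, 1, 1), (46, 1, 2)]), (30, [(45, 1, 1)]), (32, [(47, 1,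
    1)])], [(27, [(44, 1, 1), (45, 1, 2)]), (30, [(46, 1, 1)]), (31, [(47, 1, 1)])], [], [(25, [(46, 1,
    1)]), (26, [(47, 1, 1)])], [(24, [(47, 1, 1)])], []]

/-- The tables. -/
def tbl : Tbl where
  comm := Trie.ofRows commRows
  refl :=
    [[0, 1, 2, 7, 15, 16, 17, 3, 8, 9, 10, 18, 19, 20, 33, 4, 5, 6, 11, 12, 13, 21, 22, 23, 24, 25, 26,
    34, 35, 36, 41, 42, 43, 14, 27, 28, 29, 37, 38, 39, 44, 30, 31, 32, 40, 45, 46, 47], [0, 1, 4, 3, 2,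
    5, 6, 8, 7, 11, 12, 9, 10, 14, 13, 15, 21, 22, 18, 19, 27, 16, 17, 23, 24, 30, 31, 20, 28, 29, 25, 26,
    32, 34, 33, 37, 38, 35, 36, 40, 39, 41, 42, 45, 44, 43, 46, 47], [0, 2, 1, 3, 5, 4, 6, 7, 9, 8, 10,
    11, 13, 12, 14, 16, 15, 17, 18, 20, 19, 23, 25, 21, 26, 22, 24, 28, 27, 29, 30, 32, 31, 33, 35, 34,
    36, 37, 39, 38, 40, 41, 43, 42, 44, 46, 45, 47], [1, 0, 2, 3, 4, 6, 5, 7, 8, 10, 9, 12, 11, 13, 14,
    15, 17, 16, 19, 18, 20, 22, 21, 24, 23, 26, 25, 27, 29, 28, 31, 30, 32, 33, 34, 36, 35, 38, 37, 39,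
    40, 42, 41, 43, 44, 45, 47, 46]]
  cart :=
    [[0, 0, 0, -1, -2, -2, -2, 1, 0, 0, 0, -1, -1, -1, -2, 2, 2, 2, 1, 1, 1, 0, 0, 0, 0, 0, 0, -1, -1, -1,
    -2, -2, -2, 2, 1, 1, 1, 0, 0, 0, -1, 2, 2, 2, 1, 0, 0, 0], [0, 0, -2, 0, 2, 0, 0, -1, 1, -1, -1, 1, 1,
    -1, 1, 0, -2, -2, 0, 0, -2, 2, 2, 0, 0, -2, -2, 2, 0, 0, 2, 2, 0, -1, 1, -1, -1, 1, 1, -1, 1, 0, 0,
    -2, 0, 2, 0, 0], [0, -1, 1, 0, -1, 1, 0, 0, -1, 1, 0, 0, -1, 1, 0, -1, 1, 0, 0, -1, 1, -1, -2, 1, -1,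
    2, 1, -1, 1, 0, 0, -1, 1, 0, -1, 1, 0, 0, -1, 1, 0, 0, -1, 1, 0, -1, 1, 0], [-1, 1, 0, 0, 0, -1, 1, 0,
    0, -1, 1, -1, 1, 0, 0, 0, -1, 1, -1, 1, 0, -1, 1, -2, 2, -1, 1, 0, -1, 1, -1, 1, 0, 0, 0, -1, 1, -1,
    1, 0, 0, -1, 1, 0, 0, 0, -1, 1]]

/-- The search at the pattern `[]` from `24` on. -/
def tree0 : Tree :=
  .split (.split (.split (.goto [] 0) (.goto [] 1)) (.kill [.x 24 [-4, 4]] (.goto [.n 3] 1))) (.split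
    (.kill [.x 25 [-4, 4]] (.goto [.n 2] 1)) (.kill [.x 24 [0, -4, 4]] (.bad 27)))

/-- The search at the pattern `[]` from `27` on. -/
def tree1 : Tree :=
  .split (.split (.split (.split (.split (.split (.goto [] 1) (.goto [] 2)) (.kill [.x 25 [-4, 4]] (.goto
    [.n 2] 2))) (.kill [.x 24 [-4, 4]] (.kill [.x 26 [-4, 4]] (.goto [.n 3, .n 2] 2)))) (.split (.split
    (.split (.goto [] 3) (.goto [] 6)) (.kill [.x 25 [0, -4, 4]] (.goto [.n 2] 6))) (.kill [.x 24 [0, -4,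
    4]] (.kill [.x 26 [0, -4, 4]] (.goto [] 4))))) (.kill [.x 24 [-4, 4]] (.split (.split (.split (.goto
    [.n 3] 3) (.goto [.n 3] 6)) (.kill [.x 25 [0, -4, 4]] (.goto [.n 3] 4))) (.split (.kill [.x 26 [0, -4,
    4]] (.goto [.n 3, .n 2] 6)) (.kill [.x 25 [0, 0, -4, 4]] (.goto [.n 3, .n 2] 8)))))) (.kill [.x 25
    [-4, 4]] (.kill [.x 26 [-4, 4]] (.split (.split (.split (.goto [.n 2, .n 3] 3) (.goto [.n 2, .n 3] 4))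
    (.split (.goto [.n 2, .n 3] 6) (.goto [.n 2, .n 3] 8))) (.kill [.x 24 [0, -4, 4]] (.split (.goto [.n
    2, .n 3, .n 2] 6) (.goto [.n 2, .n 3, .n 2] 8))))))

/-- The search at the pattern `[26]` from `27` on. -/
def tree2 : Tree :=
  .split (.split (.kill [.x 27 [-4, 4]] (.split (.split (.kill [.x 30 [-4, 4]] (.goto [.n 1, .n 2] 1))
    (.kill [.x 25 [0, -4, 4]] (.goto [] 4))) (.kill [.x 24 [0, -4, 4]] (.kill [.x 26 [0, -4, 4]] (.bad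
    33))))) (.kill [.x 24 [0, -4, 4]] (.split (.split (.kill [.x 30 [-4, 0, 4]] (.goto [.n 1, .n 3] 3))
    (.kill [.x 25 [0, 0, -4, 4]] (.goto [] 6))) (.split (.kill [.x 26 [0, 0, -4, 4]] (.bad 33)) (.kill [.x
    25 [0, 0, 0, -4, 4]] (.bad 33)))))) (.kill [.x 25 [0, -4, 4]] (.kill [.x 26 [0, -4, 4]] (.bad 30)))

/-- The search at the pattern `[]` from `33` on. -/
def tree3 : Tree :=
  .split (.split (.split (.split (.split (.split (.split (.split (.split (.split (.split (.split (.split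
    (.split (.split (.goto [] 26) (.goto [] 22)) (.kill [.x 24 [-4, 4]] (.goto [.n 3] 22))) (.kill [.x 25
    [-4, 4]] (.kill [.x 26 [-4, 4]] (.goto [.n 2, .n 3] 22)))) (.split (.split (.split (.goto [] 23)
    (.goto [] 24)) (.kill [.x 24 [0, -4, 4]] (.goto [.n 3] 24))) (.kill [.x 25 [0, -4, 4]] (.kill [.x 26
    [0, -4, 4]] (.goto [.n 2, .n 3] 24))))) (.kill [.x 27 [-4, 4]] (.split (.kill [.x 30 [-4, 4]] (.kill
    [.x 31 [-4, 4]] (.goto [.n 1, .n 2, .n 3] 22))) (.kill [.x 25 [0, -4, 4]] (.kill [.x 26 [0, -4, 4]]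
    (.goto [] 21)))))) (.kill [.x 25 [-4, 4]] (.kill [.x 28 [-4, 4]] (.kill [.x 30 [-4, 4]] (.split (.kill
    [.x 32 [-4, 4]] (.goto [.n 2, .n 1, .n 2, .n 3] 22)) (.kill [.x 24 [0, -4, 4]] (.goto [.n 2] 21)))))))
    (.kill [.x 24 [-4, 4]] (.kill [.x 26 [-4, 4]] (.kill [.x 29 [-4, 4]] (.kill [.x 31 [-4, 4]] (.kill [.x
    32 [-4, 4]] (.split (.goto [.n 3, .n 2, .n 1, .n 2, .n 3] 22) (.goto [.n 3, .n 2] 21)))))))) (.split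
    (.split (.split (.kill [.x 33 [-4, 4]] (.split (.split (.split (.goto [.n 0] 23) (.goto [.n 0] 24))
    (.kill [.x 24 [0, -4, 4]] (.goto [.n 0, .n 3] 24))) (.kill [.x 25 [0, -4, 4]] (.kill [.x 26 [0, -4,
    4]] (.goto [.n 0, .n 2, .n 3] 24))))) (.kill [.x 27 [0, -4, 4]] (.split (.kill [.x 30 [0, -4, 4]]
    (.kill [.x 31 [0, -4, 4]] (.goto [] 25))) (.kill [.x 25 [0, 0, -4, 4]] (.kill [.x 26 [0, 0, -4, 4]]
    (.goto [] 17)))))) (.kill [.x 25 [0, -4, 4]] (.kill [.x 28 [0, -4, 4]] (.kill [.x 30 [0, -4, 4]]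
    (.split (.kill [.x 32 [0, -4, 4]] (.goto [.n 2] 25)) (.kill [.x 24 [0, 0, -4, 4]] (.goto [.n 2]
    17))))))) (.kill [.x 24 [0, -4, 4]] (.kill [.x 26 [0, -4, 4]] (.kill [.x 29 [0, -4, 4]] (.kill [.x 31
    [0, -4, 4]] (.kill [.x 32 [0, -4, 4]] (.split (.goto [.n 3, .n 2] 25) (.goto [.n 3, .n 2] 17)))))))))
    (.kill [.x 27 [-4, 4]] (.split (.split (.split (.kill [.x 34 [-4, 4]] (.split (.split (.split (.goto
    [.n 1, .n 0] 23) (.goto [.n 1, .n 0] 24)) (.kill [.x 24 [0, -4, 4]] (.goto [.n 1, .n 0, .n 3] 24)))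
    (.kill [.x 25 [0, -4, 4]] (.kill [.x 26 [0, -4, 4]] (.goto [.n 1] 25))))) (.kill [.x 34 [-4, 0, 4]]
    (.split (.kill [.x 30 [0, -4, 4]] (.kill [.x 31 [0, -4, 4]] (.goto [.n 1, .n 0, .n 2, .n 3] 24)))
    (.kill [.x 25 [0, 0, -4, 4]] (.kill [.x 26 [0, 0, -4, 4]] (.goto [.n 1] 17)))))) (.kill [.x 25 [0, -4,
    4]] (.kill [.x 28 [0, -4, 4]] (.kill [.x 30 [0, -4, 4]] (.split (.kill [.x 32 [0, -4, 4]] (.goto [.n
    1, .n 2] 25)) (.kill [.x 24 [0, 0, -4, 4]] (.goto [.n 1, .n 2] 17))))))) (.kill [.x 24 [0, -4, 4]]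
    (.kill [.x 26 [0, -4, 4]] (.kill [.x 29 [0, -4, 4]] (.kill [.x 31 [0, -4, 4]] (.kill [.x 32 [0, -4,
    4]] (.split (.goto [.n 1, .n 3, .n 2] 25) (.goto [.n 1, .n 3, .n 2] 17)))))))))) (.kill [.x 25 [-4,
    4]] (.kill [.x 28 [-4, 4]] (.split (.split (.split (.kill [.x 35 [-4, 4]] (.split (.split (.split
    (.goto [.n 2, .n 1, .n 0] 23) (.goto [.n 2, .n 1, .n 0] 24)) (.kill [.x 24 [0, -4, 4]] (.goto [.n 2,
    .n 1] 25))) (.split (.kill [.x 26 [0, -4, 4]] (.goto [.n 2, .n 1, .n 0, .n 3] 24)) (.kill [.x 24 [0,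
    0, -4, 4]] (.goto [.n 2, .n 1, .n 3] 20))))) (.kill [.x 27 [0, -4, 4]] (.split (.kill [.x 30 [0, -4,
    4]] (.kill [.x 31 [0, -4, 4]] (.goto [.n 2, .n 1, .n 2] 25))) (.kill [.x 30 [0, -4, 0, 4]] (.kill [.x
    26 [0, 0, -4, 4]] (.goto [.n 2, .n 1, .n 2] 17)))))) (.split (.kill [.x 35 [-4, 0, 4]] (.kill [.x 30
    [0, -4, 4]] (.split (.kill [.x 32 [0, -4, 4]] (.goto [.n 2, .n 1, .n 0, .n 2, .n 3] 24)) (.kill [.x 24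
    [0, 0, -4, 4]] (.goto [.n 2, .n 1] 17))))) (.kill [.x 27 [0, 0, -4, 4]] (.kill [.x 30 [0, -4, 0, 4]]
    (.split (.kill [.x 31 [0, 0, -4, 4]] (.goto [.n 2, .n 1, .n 2, .n 3] 20)) (.kill [.x 24 [0, 0, 0, -4,
    4]] (.goto [.n 2, .n 1, .n 2] 12))))))) (.kill [.x 24 [0, -4, 4]] (.kill [.x 26 [0, -4, 4]] (.kill [.x
    29 [0, -4, 4]] (.kill [.x 31 [0, -4, 4]] (.kill [.x 32 [0, -4, 4]] (.split (.goto [.n 2, .n 1, .n 3,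
    .n 2] 25) (.goto [.n 2, .n 1, .n 3, .n 2] 17))))))))))) (.kill [.x 24 [-4, 4]] (.kill [.x 26 [-4, 4]]
    (.kill [.x 29 [-4, 4]] (.split (.split (.split (.kill [.x 36 [-4, 4]] (.split (.split (.split (.goto
    [.n 3, .n 2, .n 1, .n 0] 23) (.goto [.n 3, .n 2, .n 1] 25)) (.split (.goto [.n 3, .n 2, .n 1, .n 0]
    24) (.goto [.n 3, .n 2, .n 1] 20))) (.kill [.x 25 [0, -4, 4]] (.split (.goto [.n 2, .n 3, .n 2, .n 1,
    .n 0] 24) (.goto [.n 2, .n 3, .n 2, .n 1] 20))))) (.kill [.x 27 [0, -4, 4]] (.split (.kill [.x 30 [0,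
    -4, 4]] (.kill [.x 31 [0, -4, 4]] (.goto [.n 3, .n 2, .n 1, .n 2] 25))) (.kill [.x 25 [0, 0, -4, 4]]
    (.kill [.x 31 [0, -4, 0, 4]] (.goto [.n 3, .n 2, .n 1, .n 2] 17)))))) (.kill [.x 25 [0, -4, 4]] (.kill
    [.x 28 [0, -4, 4]] (.kill [.x 30 [0, -4, 4]] (.split (.kill [.x 32 [0, -4, 4]] (.goto [.n 2, .n 3, .n
    2, .n 1, .n 2] 25)) (.kill [.x 32 [0, -4, 0, 4]] (.goto [.n 2, .n 3, .n 2, .n 1, .n 2] 17)))))))
    (.split (.split (.kill [.x 36 [-4, 0, 4]] (.kill [.x 31 [0, -4, 4]] (.kill [.x 32 [0, -4, 4]] (.split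
    (.goto [.n 3, .n 2, .n 1, .n 0, .n 2, .n 3] 24) (.goto [.n 3, .n 2, .n 1] 17))))) (.kill [.x 27 [0, 0,
    -4, 4]] (.kill [.x 31 [0, -4, 0, 4]] (.kill [.x 30 [0, 0, -4, 4]] (.split (.goto [.n 3, .n 2, .n 1, .n
    2, .n 3] 20) (.goto [.n 3, .n 2, .n 1, .n 2] 12)))))) (.kill [.x 25 [0, 0, -4, 4]] (.kill [.x 28 [0,
    0, -4, 4]] (.kill [.x 30 [0, 0, -4, 4]] (.kill [.x 32 [0, -4, 0, 4]] (.split (.goto [.n 2, .n 3, .n 2,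
    .n 1, .n 2, .n 3] 20) (.goto [.n 2, .n 3, .n 2, .n 1, .n 2] 12)))))))))))) (.split (.kill [.x 27 [-4,
    4]] (.kill [.x 28 [-4, 4]] (.kill [.x 30 [-4, 4]] (.split (.split (.split (.kill [.x 37 [-4, 4]]
    (.split (.split (.split (.goto [.n 1, .n 2, .n 1, .n 0] 23) (.goto [.n 1, .n 2, .n 1, .n 0] 24))
    (.kill [.x 24 [0, -4, 4]] (.goto [.n 1, .n 2, .n 1] 25))) (.kill [.x 25 [0, -4, 4]] (.kill [.x 26 [0,
    -4, 4]] (.goto [.n 1, .n 2, .n 1, .n 2] 25))))) (.kill [.x 37 [-4, 0, 4]] (.split (.split (.kill [.x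
    31 [0, -4, 4]] (.goto [.n 1, .n 2, .n 1, .n 0, .n 3] 24)) (.kill [.x 24 [0, 0, -4, 4]] (.goto [.n 1,
    .n 2, .n 1, .n 3] 20))) (.kill [.x 25 [0, 0, -4, 4]] (.kill [.x 26 [0, 0, -4, 4]] (.goto [.n 1, .n 2,
    .n 1, .n 2] 17)))))) (.kill [.x 25 [0, -4, 4]] (.kill [.x 37 [-4, 0, 4]] (.split (.split (.kill [.x 32
    [0, -4, 4]] (.goto [.n 1, .n 2, .n 1, .n 0, .n 2, .n 3] 24)) (.kill [.x 24 [0, 0, -4, 4]] (.goto [.n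
    1, .n 2, .n 1] 17))) (.split (.kill [.x 26 [0, 0, -4, 4]] (.goto [.n 1, .n 2, .n 1, .n 2, .n 3] 20))
    (.kill [.x 24 [0, 0, 0, -4, 4]] (.goto [.n 1, .n 2, .n 1, .n 2] 12))))))) (.kill [.x 24 [0, -4, 4]]
    (.kill [.x 26 [0, -4, 4]] (.kill [.x 29 [0, -4, 4]] (.kill [.x 31 [0, -4, 4]] (.kill [.x 32 [0, -4,
    4]] (.split (.goto [.n 1, .n 2, .n 1, .n 3, .n 2] 25) (.goto [.n 1, .n 2, .n 1, .n 3, .n 2]
    17))))))))))) (.kill [.x 24 [0, -4, 4]] (.kill [.x 26 [0, -4, 4]] (.kill [.x 29 [0, -4, 4]] (.split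
    (.split (.split (.kill [.x 36 [0, -4, 4]] (.bad 45)) (.kill [.x 36 [0, -4, 0, 4]] (.bad 45))) (.kill
    [.x 25 [0, 0, -4, 4]] (.kill [.x 36 [0, -4, 0, 4]] (.bad 45)))) (.split (.split (.kill [.x 36 [0, -4,
    0, 4]] (.bad 45)) (.kill [.x 36 [0, -4, 0, 0, 4]] (.bad 45))) (.kill [.x 25 [0, 0, 0, -4, 4]] (.kill
    [.x 36 [0, -4, 0, 0, 4]] (.bad 45)))))))))) (.kill [.x 24 [-4, 4]] (.kill [.x 27 [-4, 4]] (.split
    (.kill [.x 29 [-4, 4]] (.kill [.x 31 [-4, 4]] (.split (.split (.split (.kill [.x 38 [-4, 4]] (.split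
    (.split (.split (.goto [.n 1, .n 3, .n 2, .n 1, .n 0] 23) (.goto [.n 1, .n 3, .n 2, .n 1] 25)) (.split
    (.goto [.n 1, .n 3, .n 2, .n 1, .n 0] 24) (.goto [.n 1, .n 3, .n 2, .n 1] 20))) (.kill [.x 25 [0, -4,
    4]] (.kill [.x 26 [0, -4, 4]] (.goto [.n 1, .n 3, .n 2, .n 1, .n 2] 25))))) (.kill [.x 38 [-4, 0, 4]]
    (.split (.kill [.x 30 [0, -4, 4]] (.split (.goto [.n 1, .n 2, .n 3, .n 2, .n 1, .n 0] 24) (.goto [.n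
    1, .n 2, .n 3, .n 2, .n 1] 20))) (.kill [.x 25 [0, 0, -4, 4]] (.kill [.x 26 [0, 0, -4, 4]] (.goto [.n
    1, .n 3, .n 2, .n 1, .n 2] 17)))))) (.kill [.x 25 [0, -4, 4]] (.kill [.x 28 [0, -4, 4]] (.kill [.x 30
    [0, -4, 4]] (.split (.kill [.x 32 [0, -4, 4]] (.goto [.n 1, .n 2, .n 3, .n 2, .n 1, .n 2] 25)) (.kill
    [.x 32 [0, -4, 0, 4]] (.goto [.n 1, .n 2, .n 3, .n 2, .n 1, .n 2] 17))))))) (.split (.kill [.x 26 [0,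
    -4, 4]] (.kill [.x 38 [-4, 0, 4]] (.split (.kill [.x 32 [0, -4, 4]] (.split (.goto [.n 1, .n 3, .n 2,
    .n 1, .n 0, .n 2, .n 3] 24) (.goto [.n 1, .n 3, .n 2, .n 1] 17))) (.kill [.x 25 [0, 0, -4, 4]] (.split
    (.goto [.n 1, .n 3, .n 2, .n 1, .n 2, .n 3] 20) (.goto [.n 1, .n 3, .n 2, .n 1, .n 2] 12)))))) (.kill
    [.x 25 [0, 0, -4, 4]] (.kill [.x 28 [0, 0, -4, 4]] (.kill [.x 30 [0, 0, -4, 4]] (.kill [.x 32 [0, -4,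
    0, 4]] (.split (.goto [.n 1, .n 2, .n 3, .n 2, .n 1, .n 2, .n 3] 20) (.goto [.n 1, .n 2, .n 3, .n 2,
    .n 1, .n 2] 12)))))))))) (.kill [.x 25 [0, -4, 4]] (.kill [.x 28 [0, -4, 4]] (.split (.split (.split
    (.kill [.x 35 [0, -4, 4]] (.bad 45)) (.kill [.x 35 [0, -4, 0, 4]] (.bad 45))) (.split (.kill [.x 35
    [0, -4, 0, 4]] (.bad 45)) (.kill [.x 35 [0, -4, 0, 0, 4]] (.bad 45)))) (.split (.kill [.x 26 [0, 0,
    -4, 4]] (.kill [.x 35 [0, -4, 0, 4]] (.bad 45))) (.kill [.x 26 [0, 0, -4, 0, 4]] (.kill [.x 35 [0, -4,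
    0, 0, 4]] (.bad 45))))))))))) (.kill [.x 25 [-4, 4]] (.kill [.x 26 [-4, 4]] (.kill [.x 28 [-4, 4]]
    (.kill [.x 29 [-4, 4]] (.split (.kill [.x 32 [-4, 4]] (.split (.split (.split (.kill [.x 39 [-4, 4]]
    (.split (.split (.split (.goto [.n 2, .n 1, .n 3, .n 2, .n 1, .n 0] 23) (.goto [.n 2, .n 1, .n 3, .n
    2, .n 1] 25)) (.kill [.x 24 [0, -4, 4]] (.goto [.n 2, .n 1, .n 3, .n 2, .n 1, .n 2] 25))) (.split
    (.split (.goto [.n 2, .n 1, .n 3, .n 2, .n 1, .n 0] 24) (.goto [.n 2, .n 1, .n 3, .n 2, .n 1] 20))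
    (.kill [.x 24 [0, 0, -4, 4]] (.goto [.n 2, .n 1, .n 3, .n 2, .n 1, .n 2] 20))))) (.kill [.x 27 [0, -4,
    4]] (.split (.kill [.x 30 [0, -4, 4]] (.kill [.x 31 [0, -4, 4]] (.goto [.n 2, .n 1, .n 2, .n 3, .n 2,
    .n 1, .n 2] 25))) (.kill [.x 30 [0, -4, 0, 4]] (.kill [.x 31 [0, -4, 0, 4]] (.goto [.n 2, .n 1, .n 2,
    .n 3, .n 2, .n 1, .n 2] 17)))))) (.split (.kill [.x 39 [-4, 0, 4]] (.kill [.x 30 [0, -4, 4]] (.split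
    (.split (.goto [.n 2, .n 1, .n 2, .n 3, .n 2, .n 1, .n 0] 24) (.goto [.n 2, .n 1, .n 2, .n 3, .n 2, .n
    1] 20)) (.kill [.x 24 [0, 0, -4, 4]] (.goto [.n 2, .n 1, .n 3, .n 2, .n 1, .n 2] 17))))) (.kill [.x 27
    [0, 0, -4, 4]] (.kill [.x 30 [0, -4, 0, 4]] (.split (.kill [.x 31 [0, 0, -4, 4]] (.goto [.n 2, .n 1,
    .n 2, .n 3, .n 2, .n 1, .n 2] 20)) (.kill [.x 24 [0, 0, 0, -4, 4]] (.goto [.n 2, .n 1, .n 2, .n 3, .n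
    2, .n 1, .n 2, .n 3] 12))))))) (.kill [.x 24 [0, -4, 4]] (.split (.kill [.x 39 [-4, 0, 4]] (.kill [.x
    31 [0, -4, 4]] (.split (.split (.goto [.n 2, .n 1, .n 3, .n 2, .n 1, .n 0, .n 2, .n 3] 24) (.goto [.n
    2, .n 1, .n 3, .n 2, .n 1] 17)) (.split (.goto [.n 2, .n 1, .n 3, .n 2, .n 1, .n 2, .n 3] 20) (.goto
    [.n 2, .n 1, .n 3, .n 2, .n 1, .n 2] 12))))) (.kill [.x 27 [0, 0, -4, 4]] (.kill [.x 31 [0, -4, 0, 4]]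
    (.kill [.x 30 [0, 0, -4, 4]] (.split (.goto [.n 2, .n 1, .n 2, .n 3, .n 2, .n 1, .n 2, .n 3] 20)
    (.goto [.n 2, .n 1, .n 2, .n 3, .n 2, .n 1, .n 2] 12))))))))) (.kill [.x 27 [0, -4, 4]] (.split
    (.split (.split (.kill [.x 34 [0, -4, 4]] (.bad 45)) (.kill [.x 34 [0, -4, 0, 4]] (.bad 45))) (.split
    (.kill [.x 34 [0, -4, 0, 4]] (.bad 45)) (.kill [.x 34 [0, -4, 0, 0, 4]] (.bad 45)))) (.kill [.x 24 [0,
    0, -4, 4]] (.split (.kill [.x 34 [0, -4, 0, 4]] (.bad 45)) (.kill [.x 34 [0, -4, 0, 0, 4]] (.bad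
    45)))))))))))) (.kill [.x 27 [-4, 4]] (.kill [.x 28 [-4, 4]] (.kill [.x 29 [-4, 4]] (.kill [.x 30 [-4,
    4]] (.kill [.x 31 [-4, 4]] (.kill [.x 32 [-4, 4]] (.split (.split (.split (.split (.kill [.x 40 [-4,
    4]] (.split (.split (.split (.goto [.n 1, .n 2, .n 1, .n 3, .n 2, .n 1, .n 0] 23) (.goto [.n 1, .n 2,
    .n 1, .n 3, .n 2, .n 1] 25)) (.kill [.x 24 [0, -4, 4]] (.goto [.n 1, .n 2, .n 1, .n 3, .n 2, .n 1, .n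
    2] 25))) (.kill [.x 25 [0, -4, 4]] (.kill [.x 26 [0, -4, 4]] (.goto [.n 1, .n 2, .n 1, .n 2, .n 3, .n
    2, .n 1, .n 2] 25))))) (.kill [.x 40 [-4, 0, 4]] (.split (.split (.split (.goto [.n 1, .n 2, .n 1, .n
    3, .n 2, .n 1, .n 0] 24) (.goto [.n 1, .n 2, .n 1, .n 3, .n 2, .n 1] 20)) (.kill [.x 24 [0, 0, -4, 4]]
    (.goto [.n 1, .n 2, .n 1, .n 3, .n 2, .n 1, .n 2] 20))) (.kill [.x 25 [0, 0, -4, 4]] (.kill [.x 26 [0,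
    0, -4, 4]] (.goto [.n 1, .n 2, .n 1, .n 2, .n 3, .n 2, .n 1, .n 2] 17)))))) (.kill [.x 25 [0, -4, 4]]
    (.kill [.x 40 [-4, 0, 4]] (.split (.split (.split (.goto [.n 1, .n 2, .n 1, .n 2, .n 3, .n 2, .n 1, .n
    0] 24) (.goto [.n 1, .n 2, .n 1, .n 2, .n 3, .n 2, .n 1] 20)) (.kill [.x 24 [0, 0, -4, 4]] (.goto [.n
    1, .n 2, .n 1, .n 3, .n 2, .n 1, .n 2] 17))) (.split (.kill [.x 26 [0, 0, -4, 4]] (.goto [.n 1, .n 2,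
    .n 1, .n 2, .n 3, .n 2, .n 1, .n 2] 20)) (.kill [.x 24 [0, 0, 0, -4, 4]] (.goto [.n 1, .n 2, .n 1, .n
    2, .n 3, .n 2, .n 1, .n 2, .n 3] 12))))))) (.kill [.x 24 [0, -4, 4]] (.kill [.x 26 [0, -4, 4]] (.kill
    [.x 40 [-4, 0, 4]] (.split (.split (.split (.goto [.n 1, .n 2, .n 1, .n 3, .n 2, .n 1, .n 0, .n 2, .n
    3] 24) (.goto [.n 1, .n 2, .n 1, .n 3, .n 2, .n 1] 17)) (.split (.goto [.n 1, .n 2, .n 1, .n 3, .n 2,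
    .n 1, .n 2, .n 3] 20) (.goto [.n 1, .n 2, .n 1, .n 3, .n 2, .n 1, .n 2] 12))) (.kill [.x 25 [0, 0, -4,
    4]] (.split (.goto [.n 1, .n 2, .n 1, .n 2, .n 3, .n 2, .n 1, .n 2, .n 3] 20) (.goto [.n 1, .n 2, .n
    1, .n 2, .n 3, .n 2, .n 1, .n 2] 12)))))))) (.split (.split (.split (.kill [.x 33 [0, -4, 4]] (.bad
    45)) (.kill [.x 33 [0, -4, 0, 4]] (.bad 45))) (.kill [.x 25 [0, 0, -4, 4]] (.kill [.x 33 [0, -4, 0,
    4]] (.bad 45)))) (.kill [.x 24 [0, 0, -4, 4]] (.kill [.x 26 [0, 0, -4, 4]] (.kill [.x 33 [0, -4, 0,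
    4]] (.bad 45))))))))))))

/-- The search at the pattern `[32]` from `33` on. -/
def tree4 : Tree :=
  .split (.split (.split (.split (.split (.split (.kill [.x 33 [-4, 4]] (.kill [.x 34 [-4, 4]] (.split
    (.split (.split (.split (.split (.kill [.x 41 [-4, 4]] (.kill [.x 42 [-4, 4]] (.goto [.n 0, .n 1, .n
    2, .n 3] 21))) (.kill [.x 25 [0, -4, 4]] (.kill [.x 26 [0, -4, 4]] (.goto [.n 0] 20)))) (.split (.kill
    [.x 41 [-4, 0, 4]] (.kill [.x 42 [-4, 0, 4]] (.goto [.n 0] 24))) (.kill [.x 25 [0, 0, -4, 4]] (.kill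
    [.x 26 [0, 0, -4, 4]] (.goto [.n 0] 16))))) (.kill [.x 27 [0, -4, 4]] (.split (.kill [.x 30 [0, -4,
    4]] (.kill [.x 31 [0, -4, 4]] (.goto [.n 1, .n 0] 20))) (.kill [.x 25 [0, 0, -4, 4]] (.kill [.x 26 [0,
    0, -4, 4]] (.goto [] 10)))))) (.kill [.x 25 [0, -4, 4]] (.kill [.x 28 [0, -4, 4]] (.kill [.x 30 [0,
    -4, 4]] (.kill [.x 41 [-4, 0, 4]] (.kill [.x 32 [0, -4, 4]] (.bad 48))))))) (.kill [.x 24 [0, -4, 4]]
    (.kill [.x 26 [0, -4, 4]] (.kill [.x 29 [0, -4, 4]] (.kill [.x 31 [0, -4, 4]] (.kill [.x 32 [0, -4,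
    4]] (.bad 47))))))))) (.kill [.x 25 [0, -4, 4]] (.kill [.x 28 [0, -4, 4]] (.split (.split (.split
    (.kill [.x 35 [0, -4, 4]] (.split (.kill [.x 41 [-4, 0, 4]] (.kill [.x 42 [-4, 0, 4]] (.goto [.n 0, .n
    2, .n 1, .n 2] 24))) (.kill [.x 41 [-4, 0, 0, 4]] (.kill [.x 26 [0, 0, -4, 4]] (.goto [.n 0, .n 2, .n
    1, .n 2] 16))))) (.kill [.x 27 [0, 0, -4, 4]] (.split (.kill [.x 30 [0, 0, -4, 4]] (.kill [.x 31 [0,
    0, -4, 4]] (.goto [] 9))) (.kill [.x 30 [0, 0, -4, 0, 4]] (.kill [.x 26 [0, 0, 0, -4, 4]] (.goto []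
    7)))))) (.split (.kill [.x 35 [0, -4, 0, 4]] (.kill [.x 30 [0, 0, -4, 4]] (.kill [.x 41 [-4, 0, 0, 4]]
    (.kill [.x 32 [0, 0, -4, 4]] (.bad 48))))) (.kill [.x 27 [0, 0, 0, -4, 4]] (.kill [.x 30 [0, 0, -4, 0,
    4]] (.kill [.x 41 [-4, 0, 0, 0, 4]] (.kill [.x 31 [0, 0, 0, -4, 4]] (.bad 48))))))) (.kill [.x 24 [0,
    0, -4, 4]] (.kill [.x 26 [0, 0, -4, 4]] (.kill [.x 29 [0, 0, -4, 4]] (.kill [.x 31 [0, 0, -4, 4]]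
    (.kill [.x 32 [0, 0, -4, 4]] (.bad 47)))))))))) (.kill [.x 24 [0, -4, 4]] (.kill [.x 26 [0, -4, 4]]
    (.kill [.x 29 [0, -4, 4]] (.split (.split (.split (.kill [.x 36 [0, -4, 4]] (.split (.kill [.x 41 [-4,
    0, 4]] (.kill [.x 42 [-4, 0, 4]] (.goto [.n 0, .n 3, .n 2, .n 1, .n 2] 24))) (.kill [.x 25 [0, 0, -4,
    4]] (.kill [.x 42 [-4, 0, 0, 4]] (.goto [.n 0, .n 3, .n 2, .n 1, .n 2] 16))))) (.kill [.x 27 [0, 0,
    -4, 4]] (.split (.kill [.x 30 [0, 0, -4, 4]] (.kill [.x 31 [0, 0, -4, 4]] (.goto [.n 3] 9))) (.kill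
    [.x 25 [0, 0, 0, -4, 4]] (.kill [.x 31 [0, 0, -4, 0, 4]] (.goto [.n 3] 7)))))) (.kill [.x 25 [0, 0,
    -4, 4]] (.kill [.x 28 [0, 0, -4, 4]] (.kill [.x 30 [0, 0, -4, 4]] (.kill [.x 41 [-4, 0, 0, 4]] (.kill
    [.x 32 [0, 0, -4, 4]] (.bad 48))))))) (.split (.split (.kill [.x 36 [0, -4, 0, 4]] (.kill [.x 31 [0,
    0, -4, 4]] (.kill [.x 32 [0, 0, -4, 4]] (.bad 47)))) (.kill [.x 27 [0, 0, 0, -4, 4]] (.kill [.x 31 [0,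
    0, -4, 0, 4]] (.kill [.x 30 [0, 0, 0, -4, 4]] (.bad 47))))) (.kill [.x 25 [0, 0, 0, -4, 4]] (.kill [.x
    28 [0, 0, 0, -4, 4]] (.kill [.x 30 [0, 0, 0, -4, 4]] (.kill [.x 32 [0, 0, -4, 0, 4]] (.bad
    47))))))))))) (.split (.kill [.x 27 [0, -4, 4]] (.kill [.x 28 [0, -4, 4]] (.kill [.x 30 [0, -4, 4]]
    (.split (.split (.split (.kill [.x 37 [0, -4, 4]] (.split (.kill [.x 41 [-4, 0, 4]] (.kill [.x 42 [-4,
    0, 4]] (.goto [.n 1, .n 0, .n 2, .n 1, .n 2] 24))) (.kill [.x 25 [0, 0, -4, 4]] (.kill [.x 26 [0, 0,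
    -4, 4]] (.goto [.n 1] 9))))) (.kill [.x 37 [0, -4, 0, 4]] (.split (.kill [.x 41 [-4, 0, 0, 4]] (.kill
    [.x 31 [0, 0, -4, 4]] (.goto [.n 1, .n 0, .n 2, .n 1, .n 2] 16))) (.kill [.x 25 [0, 0, 0, -4, 4]]
    (.kill [.x 26 [0, 0, 0, -4, 4]] (.goto [.n 1] 7)))))) (.kill [.x 25 [0, 0, -4, 4]] (.kill [.x 37 [0,
    -4, 0, 4]] (.split (.kill [.x 41 [-4, 0, 0, 4]] (.kill [.x 32 [0, 0, -4, 4]] (.bad 48))) (.kill [.x 41
    [-4, 0, 0, 0, 4]] (.kill [.x 26 [0, 0, 0, -4, 4]] (.bad 48))))))) (.kill [.x 24 [0, 0, -4, 4]] (.kill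
    [.x 26 [0, 0, -4, 4]] (.kill [.x 29 [0, 0, -4, 4]] (.kill [.x 31 [0, 0, -4, 4]] (.kill [.x 32 [0, 0,
    -4, 4]] (.bad 47)))))))))) (.kill [.x 24 [0, 0, -4, 4]] (.kill [.x 26 [0, 0, -4, 4]] (.kill [.x 29 [0,
    0, -4, 4]] (.split (.split (.split (.kill [.x 36 [0, 0, -4, 4]] (.bad 45)) (.kill [.x 36 [0, 0, -4, 0,
    4]] (.bad 45))) (.kill [.x 25 [0, 0, 0, -4, 4]] (.kill [.x 36 [0, 0, -4, 0, 4]] (.bad 45)))) (.split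
    (.split (.kill [.x 36 [0, 0, -4, 0, 4]] (.bad 45)) (.kill [.x 36 [0, 0, -4, 0, 0, 4]] (.bad 45)))
    (.kill [.x 25 [0, 0, 0, 0, -4, 4]] (.kill [.x 36 [0, 0, -4, 0, 0, 4]] (.bad 45)))))))))) (.kill [.x 24
    [0, -4, 4]] (.kill [.x 27 [0, -4, 4]] (.split (.kill [.x 29 [0, -4, 4]] (.kill [.x 31 [0, -4, 4]]
    (.split (.split (.split (.kill [.x 38 [0, -4, 4]] (.split (.kill [.x 41 [-4, 0, 4]] (.kill [.x 42 [-4,
    0, 4]] (.goto [.n 1, .n 0, .n 3, .n 2, .n 1, .n 2] 24))) (.kill [.x 25 [0, 0, -4, 4]] (.kill [.x 26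
    [0, 0, -4, 4]] (.goto [.n 1, .n 3] 9))))) (.kill [.x 38 [0, -4, 0, 4]] (.split (.kill [.x 30 [0, 0,
    -4, 4]] (.kill [.x 42 [-4, 0, 0, 4]] (.goto [.n 1, .n 0, .n 3, .n 2, .n 1, .n 2] 16))) (.kill [.x 25
    [0, 0, 0, -4, 4]] (.kill [.x 26 [0, 0, 0, -4, 4]] (.goto [.n 1, .n 3] 7)))))) (.kill [.x 25 [0, 0, -4,
    4]] (.kill [.x 28 [0, 0, -4, 4]] (.kill [.x 30 [0, 0, -4, 4]] (.kill [.x 41 [-4, 0, 0, 4]] (.kill [.x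
    32 [0, 0, -4, 4]] (.bad 48))))))) (.split (.kill [.x 26 [0, 0, -4, 4]] (.kill [.x 38 [0, -4, 0, 4]]
    (.split (.kill [.x 32 [0, 0, -4, 4]] (.bad 47)) (.kill [.x 25 [0, 0, 0, -4, 4]] (.bad 47))))) (.kill
    [.x 25 [0, 0, 0, -4, 4]] (.kill [.x 28 [0, 0, 0, -4, 4]] (.kill [.x 30 [0, 0, 0, -4, 4]] (.kill [.x 32
    [0, 0, -4, 0, 4]] (.bad 47))))))))) (.kill [.x 25 [0, 0, -4, 4]] (.kill [.x 28 [0, 0, -4, 4]] (.split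
    (.split (.split (.kill [.x 35 [0, 0, -4, 4]] (.bad 45)) (.kill [.x 35 [0, 0, -4, 0, 4]] (.bad 45)))
    (.split (.kill [.x 35 [0, 0, -4, 0, 4]] (.bad 45)) (.kill [.x 35 [0, 0, -4, 0, 0, 4]] (.bad 45))))
    (.split (.kill [.x 26 [0, 0, 0, -4, 4]] (.kill [.x 35 [0, 0, -4, 0, 4]] (.bad 45))) (.kill [.x 26 [0,
    0, 0, -4, 0, 4]] (.kill [.x 35 [0, 0, -4, 0, 0, 4]] (.bad 45))))))))))) (.kill [.x 25 [0, -4, 4]]
    (.kill [.x 26 [0, -4, 4]] (.kill [.x 28 [0, -4, 4]] (.kill [.x 29 [0, -4, 4]] (.kill [.x 33 [-4, 0,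
    4]] (.kill [.x 32 [0, -4, 4]] (.bad 41)))))))) (.kill [.x 27 [0, -4, 4]] (.kill [.x 28 [0, -4, 4]]
    (.kill [.x 29 [0, -4, 4]] (.kill [.x 30 [0, -4, 4]] (.kill [.x 31 [0, -4, 4]] (.kill [.x 32 [0, -4,
    4]] (.bad 40)))))))

/-- The search at the pattern `[29]` from `33` on. -/
def tree5 : Tree :=
  .split (.split (.split (.kill [.x 33 [-4, 4]] (.split (.kill [.x 34 [-4, 4]] (.kill [.x 35 [-4, 4]]
    (.kill [.x 37 [-4, 4]] (.split (.split (.split (.kill [.x 41 [-4, 4]] (.split (.split (.split (.goto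
    [.n 0, .n 1, .n 2, .n 1, .n 0] 21) (.goto [.n 0, .n 1, .n 2, .n 1, .n 0] 22)) (.kill [.x 24 [0, -4,
    4]] (.goto [.n 0, .n 1, .n 2, .n 1] 23))) (.kill [.x 25 [0, -4, 4]] (.kill [.x 26 [0, -4, 4]] (.goto
    [.n 0, .n 1, .n 2, .n 1, .n 2] 23))))) (.kill [.x 27 [0, -4, 4]] (.split (.kill [.x 30 [0, -4, 4]]
    (.kill [.x 31 [0, -4, 4]] (.goto [.n 0, .n 1, .n 0, .n 2, .n 1, .n 2] 23))) (.kill [.x 25 [0, 0, -4,
    4]] (.kill [.x 26 [0, 0, -4, 4]] (.goto [.n 0, .n 1] 8)))))) (.kill [.x 25 [0, -4, 4]] (.kill [.x 28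
    [0, -4, 4]] (.kill [.x 30 [0, -4, 4]] (.split (.kill [.x 32 [0, -4, 4]] (.goto [.n 0, .n 2, .n 1, .n
    0, .n 2, .n 1, .n 2] 23)) (.kill [.x 24 [0, 0, -4, 4]] (.goto [.n 0, .n 2, .n 1] 8))))))) (.kill [.x
    24 [0, -4, 4]] (.kill [.x 26 [0, -4, 4]] (.kill [.x 29 [0, -4, 4]] (.bad 45)))))))) (.kill [.x 24 [0,
    -4, 4]] (.kill [.x 26 [0, -4, 4]] (.kill [.x 29 [0, -4, 4]] (.bad 41)))))) (.kill [.x 24 [0, -4, 4]]
    (.kill [.x 27 [0, -4, 4]] (.kill [.x 34 [-4, 0, 4]] (.kill [.x 29 [0, -4, 4]] (.bad 40)))))) (.kill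
    [.x 25 [0, -4, 4]] (.kill [.x 26 [0, -4, 4]] (.kill [.x 28 [0, -4, 4]] (.kill [.x 29 [0, -4, 4]] (.bad
    39)))))) (.kill [.x 27 [0, -4, 4]] (.kill [.x 28 [0, -4, 4]] (.kill [.x 29 [0, -4, 4]] (.bad 37))))

/-- The search at the pattern `[29, 30]` from `33` on. -/
def tree6 : Tree :=
  .split (.split (.split (.kill [.x 33 [-4, 0, 4]] (.split (.kill [.x 34 [-4, 0, 4]] (.kill [.x 35 [-4, 0,
    4]] (.kill [.x 36 [0, -4, 4]] (.split (.split (.split (.kill [.x 41 [-4, 0, 4]] (.kill [.x 42 [0, -4,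
    4]] (.kill [.x 43 [0, -4, 4]] (.split (.goto [.n 0, .n 1, .n 2, .n 1, .n 3, .n 2] 22) (.goto [.n 0, .n
    1, .n 2, .n 1, .n 3, .n 2] 14))))) (.kill [.x 27 [0, 0, -4, 4]] (.kill [.x 42 [0, -4, 0, 4]] (.kill
    [.x 30 [0, 0, -4, 4]] (.bad 47))))) (.kill [.x 25 [0, 0, -4, 4]] (.kill [.x 28 [0, 0, -4, 4]] (.kill
    [.x 30 [0, 0, -4, 4]] (.bad 46))))) (.split (.split (.kill [.x 29 [0, 0, -4, 4]] (.bad 45)) (.kill [.x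
    27 [0, 0, 0, -4, 4]] (.bad 45))) (.kill [.x 25 [0, 0, 0, -4, 4]] (.kill [.x 28 [0, 0, 0, -4, 4]] (.bad
    45)))))))) (.kill [.x 34 [-4, 0, 0, 4]] (.kill [.x 35 [-4, 0, 0, 4]] (.kill [.x 29 [0, 0, -4, 4]]
    (.bad 41)))))) (.kill [.x 33 [-4, 0, 0, 4]] (.kill [.x 27 [0, 0, -4, 4]] (.kill [.x 34 [-4, 0, 0, 4]]
    (.kill [.x 29 [0, 0, -4, 4]] (.bad 40)))))) (.kill [.x 25 [0, 0, -4, 4]] (.kill [.x 33 [-4, 0, 0, 4]]
    (.kill [.x 28 [0, 0, -4, 4]] (.kill [.x 29 [0, 0, -4, 4]] (.bad 39)))))) (.kill [.x 27 [0, 0, -4, 4]]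
    (.kill [.x 28 [0, 0, -4, 4]] (.kill [.x 29 [0, 0, -4, 4]] (.bad 37))))

/-- The search at the pattern `[26, 31]` from `33` on. -/
def tree7 : Tree :=
  .split (.split (.split (.kill [.x 34 [-4, 0, 4]] (.split (.kill [.x 33 [0, -4, 4]] (.kill [.x 37 [-4, 0,
    4]] (.kill [.x 35 [0, -4, 4]] (.split (.split (.kill [.x 41 [-4, 0, 4]] (.split (.split (.split (.kill
    [.x 43 [0, -4, 4]] (.goto [.n 0, .n 1, .n 2, .n 1, .n 0] 17)) (.kill [.x 24 [0, 0, -4, 4]] (.goto [.n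
    0, .n 1, .n 2] 7))) (.split (.kill [.x 26 [0, 0, -4, 4]] (.bad 48)) (.kill [.x 24 [0, 0, 0, -4, 4]]
    (.bad 48)))) (.split (.split (.kill [.x 43 [0, -4, 0, 4]] (.goto [.n 0, .n 1, .n 2] 6)) (.kill [.x 24
    [0, 0, 0, -4, 4]] (.goto [.n 0, .n 1, .n 2] 4))) (.split (.kill [.x 26 [0, 0, 0, -4, 4]] (.bad 48))
    (.kill [.x 24 [0, 0, 0, 0, -4, 4]] (.bad 48)))))) (.kill [.x 41 [-4, 0, 0, 4]] (.kill [.x 28 [0, 0,
    -4, 4]] (.split (.split (.kill [.x 32 [0, 0, -4, 4]] (.goto [.n 2, .n 1, .n 0, .n 2, .n 1, .n 2] 7))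
    (.kill [.x 24 [0, 0, 0, -4, 4]] (.goto [] 3))) (.split (.kill [.x 26 [0, 0, 0, -4, 4]] (.bad 48))
    (.kill [.x 24 [0, 0, 0, 0, -4, 4]] (.bad 48))))))) (.kill [.x 24 [0, 0, -4, 4]] (.kill [.x 26 [0, 0,
    -4, 4]] (.bad 44))))))) (.kill [.x 24 [0, 0, -4, 4]] (.kill [.x 26 [0, 0, -4, 4]] (.bad 40))))) (.kill
    [.x 24 [0, 0, -4, 4]] (.split (.kill [.x 33 [0, -4, 0, 4]] (.kill [.x 29 [0, 0, -4, 4]] (.kill [.x 31
    [0, 0, -4, 4]] (.bad 41)))) (.kill [.x 33 [0, -4, 0, 0, 4]] (.kill [.x 26 [0, 0, 0, -4, 4]] (.bad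
    40)))))) (.split (.kill [.x 26 [0, 0, -4, 4]] (.bad 37)) (.kill [.x 24 [0, 0, 0, -4, 4]] (.bad 37))))
    (.split (.kill [.x 28 [0, 0, -4, 4]] (.kill [.x 29 [0, 0, -4, 4]] (.split (.kill [.x 31 [0, 0, -4, 4]]
    (.bad 39)) (.kill [.x 24 [0, 0, 0, -4, 4]] (.bad 39))))) (.kill [.x 28 [0, 0, -4, 0, 4]] (.kill [.x 26
    [0, 0, 0, -4, 4]] (.bad 37))))

/-- The search at the pattern `[29, 32]` from `33` on. -/
def tree8 : Tree :=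
  .split (.split (.split (.kill [.x 33 [-4, 0, 4]] (.split (.kill [.x 34 [-4, 0, 4]] (.kill [.x 35 [-4, 0,
    4]] (.kill [.x 37 [-4, 0, 4]] (.split (.split (.split (.kill [.x 41 [-4, 0, 4]] (.split (.split (.kill
    [.x 42 [0, -4, 4]] (.goto [.n 0, .n 1, .n 2, .n 1, .n 0, .n 3] 19)) (.kill [.x 24 [0, 0, -4, 4]]
    (.goto [.n 0, .n 1, .n 2, .n 1, .n 3] 15))) (.kill [.x 25 [0, 0, -4, 4]] (.kill [.x 26 [0, 0, -4, 4]]
    (.goto [.n 0, .n 1, .n 2, .n 1, .n 2] 12))))) (.kill [.x 27 [0, 0, -4, 4]] (.split (.kill [.x 30 [0,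
    0, -4, 4]] (.kill [.x 31 [0, 0, -4, 4]] (.goto [.n 0, .n 1, .n 0, .n 2, .n 1, .n 2] 12))) (.kill [.x
    25 [0, 0, 0, -4, 4]] (.kill [.x 26 [0, 0, 0, -4, 4]] (.goto [.n 0, .n 1] 3)))))) (.kill [.x 25 [0, 0,
    -4, 4]] (.kill [.x 28 [0, 0, -4, 4]] (.kill [.x 30 [0, 0, -4, 4]] (.split (.kill [.x 32 [0, 0, -4, 4]]
    (.bad 48)) (.kill [.x 24 [0, 0, 0, -4, 4]] (.bad 48))))))) (.kill [.x 24 [0, 0, -4, 4]] (.kill [.x 26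
    [0, 0, -4, 4]] (.kill [.x 29 [0, 0, -4, 4]] (.bad 45)))))))) (.kill [.x 24 [0, 0, -4, 4]] (.kill [.x
    26 [0, 0, -4, 4]] (.kill [.x 29 [0, 0, -4, 4]] (.bad 41)))))) (.kill [.x 24 [0, 0, -4, 4]] (.kill [.x
    27 [0, 0, -4, 4]] (.kill [.x 34 [-4, 0, 0, 4]] (.kill [.x 29 [0, 0, -4, 4]] (.bad 40)))))) (.kill [.x
    25 [0, 0, -4, 4]] (.kill [.x 26 [0, 0, -4, 4]] (.kill [.x 28 [0, 0, -4, 4]] (.kill [.x 29 [0, 0, -4,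
    4]] (.bad 39)))))) (.kill [.x 27 [0, 0, -4, 4]] (.kill [.x 28 [0, 0, -4, 4]] (.kill [.x 29 [0, 0, -4,
    4]] (.bad 37))))

/-- The search at the pattern `[26, 28, 31]` from `33` on. -/
def tree9 : Tree :=
  .split (.split (.kill [.x 33 [0, -4, 0, 4]] (.kill [.x 34 [-4, 0, 0, 4]] (.split (.split (.kill [.x 36
    [0, -4, 0, 4]] (.kill [.x 35 [0, 0, -4, 4]] (.split (.split (.kill [.x 41 [-4, 0, 0, 4]] (.kill [.x 42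
    [0, -4, 0, 4]] (.split (.split (.kill [.x 43 [0, 0, -4, 4]] (.goto [.n 0, .n 1, .n 2, .n 3] 4)) (.kill
    [.x 43 [0, 0, -4, 0, 4]] (.goto [.n 0, .n 1, .n 2, .n 3] 2))) (.split (.kill [.x 26 [0, 0, 0, -4, 4]]
    (.bad 48)) (.kill [.x 26 [0, 0, 0, -4, 0, 4]] (.bad 48)))))) (.kill [.x 41 [-4, 0, 0, 0, 4]] (.kill
    [.x 28 [0, 0, 0, -4, 4]] (.bad 45)))) (.split (.kill [.x 26 [0, 0, 0, -4, 4]] (.bad 44)) (.kill [.x 26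
    [0, 0, 0, -4, 0, 4]] (.bad 44)))))) (.kill [.x 36 [0, -4, 0, 0, 4]] (.kill [.x 28 [0, 0, 0, -4, 4]]
    (.bad 41)))) (.split (.kill [.x 26 [0, 0, 0, -4, 4]] (.bad 40)) (.kill [.x 26 [0, 0, 0, -4, 0, 4]]
    (.bad 40)))))) (.kill [.x 33 [0, -4, 0, 0, 4]] (.kill [.x 26 [0, 0, 0, -4, 4]] (.bad 37)))) (.split
    (.kill [.x 28 [0, 0, 0, -4, 4]] (.bad 36)) (.kill [.x 28 [0, 0, 0, -4, 0, 4]] (.bad 36)))

/-- The search at the pattern `[29, 30, 32]` from `33` on. -/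
def tree10 : Tree :=
  .split (.split (.split (.kill [.x 33 [-4, 0, 0, 4]] (.split (.kill [.x 34 [-4, 0, 0, 4]] (.kill [.x 35
    [-4, 0, 0, 4]] (.kill [.x 36 [0, -4, 0, 4]] (.split (.split (.split (.kill [.x 41 [-4, 0, 0, 4]]
    (.kill [.x 42 [0, -4, 0, 4]] (.kill [.x 43 [0, -4, 0, 4]] (.split (.goto [.n 0, .n 1, .n 2, .n 1, .n
    3, .n 2] 13) (.goto [.n 0, .n 1, .n 2, .n 1, .n 3, .n 2] 6))))) (.kill [.x 27 [0, 0, 0, -4, 4]] (.kill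
    [.x 42 [0, -4, 0, 0, 4]] (.kill [.x 30 [0, 0, 0, -4, 4]] (.bad 47))))) (.kill [.x 25 [0, 0, 0, -4, 4]]
    (.kill [.x 28 [0, 0, 0, -4, 4]] (.kill [.x 30 [0, 0, 0, -4, 4]] (.bad 46))))) (.split (.split (.kill
    [.x 29 [0, 0, 0, -4, 4]] (.bad 45)) (.kill [.x 27 [0, 0, 0, 0, -4, 4]] (.bad 45))) (.kill [.x 25 [0,
    0, 0, 0, -4, 4]] (.kill [.x 28 [0, 0, 0, 0, -4, 4]] (.bad 45)))))))) (.kill [.x 34 [-4, 0, 0, 0, 4]]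
    (.kill [.x 35 [-4, 0, 0, 0, 4]] (.kill [.x 29 [0, 0, 0, -4, 4]] (.bad 41)))))) (.kill [.x 33 [-4, 0,
    0, 0, 4]] (.kill [.x 27 [0, 0, 0, -4, 4]] (.kill [.x 34 [-4, 0, 0, 0, 4]] (.kill [.x 29 [0, 0, 0, -4,
    4]] (.bad 40)))))) (.kill [.x 25 [0, 0, 0, -4, 4]] (.kill [.x 33 [-4, 0, 0, 0, 4]] (.kill [.x 28 [0,
    0, 0, -4, 4]] (.kill [.x 29 [0, 0, 0, -4, 4]] (.bad 39)))))) (.kill [.x 27 [0, 0, 0, -4, 4]] (.kill
    [.x 28 [0, 0, 0, -4, 4]] (.kill [.x 29 [0, 0, 0, -4, 4]] (.bad 37))))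

/-- The search at the pattern `[26, 31, 42, 46]` from `48` on. -/
def tree11 : Tree :=
  .goto [.x 27 [-2, 2, 0, 0], .n 1, .n 0, .n 2, .n 1] 0

/-- The search at the pattern `[32, 38, 43, 45]` from `48` on. -/
def tree12 : Tree :=
  .goto [.x 27 [0, 0, -2, 2]] 0

/-- The search at the pattern `[32, 38, 43, 44]` from `48` on. -/
def tree13 : Tree :=
  .goto [.x 35 [0, -4, 0, 4]] 0

/-- The search at the pattern `[32, 38, 43]` from `48` on. -/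
def tree14 : Tree :=
  .goto [.x 33 [-2, 0, 2], .n 1, .n 0, .n 2] 3

/-- The search at the pattern `[32, 43, 45]` from `48` on. -/
def tree15 : Tree :=
  .goto [.x 27 [0, -2, 2], .n 1, .n 0] 5

/-- The search at the pattern `[40, 42, 43, 46]` from `48` on. -/
def tree16 : Tree :=
  .goto [.x 28 [0, -2, 0, 2]] 2

/-- The search at the pattern `[40, 43, 45, 47]` from `48` on. -/
def tree17 : Tree :=
  .goto [.x 27 [0, -2, 2, 0]] 2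

/-- The search at the pattern `[29, 42, 44]` from `48` on. -/
def tree18 : Tree :=
  .goto [.x 41 [-4, 0, 4], .n 0, .n 2, .n 1, .n 0, .n 2, .n 1, .n 2] 5

/-- The search at the pattern `[40, 42, 43, 44]` from `48` on. -/
def tree19 : Tree :=
  .goto [.x 33 [-4, 0, 0, 4], .n 1, .n 2, .n 3, .n 2] 2

/-- The search at the pattern `[40, 43, 44, 47]` from `48` on. -/
def tree20 : Tree :=
  .goto [.x 31 [0, -4, 0, 4]] 2

/-- The search at the pattern `[40, 43, 45]` from `48` on. -/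
def tree21 : Tree :=
  .goto [.x 27 [0, -2, 2]] 1

/-- The search at the pattern `[37, 42, 47]` from `48` on. -/
def tree22 : Tree :=
  .goto [.x 32 [0, -4, 4], .n 2, .n 3, .n 2, .n 1, .n 2] 6

/-- The search at the pattern `[40, 43, 44]` from `48` on. -/
def tree23 : Tree :=
  .goto [.x 33 [-4, 0, 4]] 5

/-- The search at the pattern `[40, 43, 47]` from `48` on. -/
def tree24 : Tree :=
  .goto [.x 31 [0, -4, 4]] 4

/-- The search at the pattern `[43, 45]` from `48` on. -/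
def tree25 : Tree :=
  .goto [.x 27 [-2, 2], .n 1, .n 2, .n 3] 2

/-- The search at the pattern `[47]` from `48` on. -/
def tree26 : Tree :=
  .fin [.h 3 [-4]] 0

/-- The search at the pattern `[44]` from `48` on. -/
def tree27 : Tree :=
  .fin [.h 0 [-4]] 1

/-- The search at the pattern `[44, 47]` from `48` on. -/
def tree28 : Tree :=
  .fin [.h 0 [-4, 0], .h 3 [0, -4]] 2

/-- The search at the pattern `[40, 43]` from `48` on. -/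
def tree29 : Tree :=
  .fin [.n 1, .h 1 [-4, -4], .h 2 [-8, -4]] 3

/-- The search at the pattern `[]` from `48` on. -/
def tree30 : Tree :=
  .triv

/-- All searches. -/
def table : List (List ℕ × ℕ × Tree) :=
  [([], 24, tree0), ([], 27, tree1), ([26], 27, tree2), ([], 33, tree3), ([32], 33, tree4), ([29], 33,
    tree5), ([29, 30], 33, tree6), ([26, 31], 33, tree7), ([29, 32], 33, tree8), ([26, 28, 31], 33,
    tree9), ([29, 30, 32], 33, tree10), ([26, 31, 42, 46], 48, tree11), ([32, 38, 43, 45], 48, tree12),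
    ([32, 38, 43, 44], 48, tree13), ([32, 38, 43], 48, tree14), ([32, 43, 45], 48, tree15), ([40, 42, 43,
    46], 48, tree16), ([40, 43, 45, 47], 48, tree17), ([29, 42, 44], 48, tree18), ([40, 42, 43, 44], 48,
    tree19), ([40, 43, 44, 47], 48, tree20), ([40, 43, 45], 48, tree21), ([37, 42, 47], 48, tree22), ([40,
    43, 44], 48, tree23), ([40, 43, 47], 48, tree24), ([43, 45], 48, tree25), ([47], 48, tree26), ([44],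
    48, tree27), ([44, 47], 48, tree28), ([40, 43], 48, tree29), ([], 48, tree30)]

/-- The representatives. -/
def reps : List (List ℕ) := [[47], [44], [44, 47], [39, 45]]

end CfsgLib.UniInvol.F4
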