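import Cfsg.Agent.UniInvol.Calc
import Cfsg.Agent.ChevParabolic.Sylow
import Cfsg.Agent.ChevParabolic.RadicalCentralizer
import Mathlib.FieldTheory.Finite.Basic

/-!
# Soundness of the calculus for involutions
-/

set_option autoImplicit false
set_option linter.unusedSectionVars false

namespace CfsgLib.UniInvol

open Cfsg.Lie CfsgLib.Chevalley

variable {D : ChevalleyDatum} {F : Type*} [Field F]

/-! ### Values of sums of monomials -/

/-- The value of a monomial, variables counted from `i`. -/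
def evM (v : ℕ → F) : ℕ → Mono → F
  | _, [] => 1
  | i, e :: l => v i ^ e * evM v (i + 1) l

/-- The value of a sum. -/
def evP (v : ℕ → F) (p : Poly) : F := (p.map (evM v 0)).sum

variable {v : ℕ → F}

theorem evM_ne_zero (hv : ∀ i, v i ≠ 0) : ∀ (a : Mono) (i : ℕ), evM v i a ≠ 0
  | [], _ => one_ne_zero
  | _ :: a, i => mul_ne_zero (zpow_ne_zero _ (hv i)) (evM_ne_zero hv a (i + 1))

theorem evM_madd (hv : ∀ i, v i ≠ 0) : ∀ (a b : Mono) (i : ℕ), evM v i (madd a b) = evM v i a * evM v i b
  | [], b, i => by simp [madd, evM]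
  | x :: a, [], i => by simp [madd, evM]
  | x :: a, y :: b, i => by
    simp only [madd, evM, evM_madd hv a b (i + 1), zpow_add₀ (hv i)]
    ring

theorem evM_msmul (c : ℤ) : ∀ (a : Mono) (i : ℕ), evM v i (msmul c a) = evM v i a ^ c
  | [], i => by simp [msmul, evM]
  | x :: a, i => by
    simp only [msmul, evM, evM_msmul c a (i + 1), mul_zpow, ← zpow_mul, mul_comm c x]

theorem evM_zeros (a : Mono) (h : ∀ x ∈ a, x = 0) : ∀ i, evM v i a = 1 := by
  induction a with
  | nil => intro i; rfl
  | cons x a ih =>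
    intro i
    rw [evM, h x (by simp), zpow_zero, one_mul, ih (fun y hy => h y (by simp [hy]))]

theorem evM_unitMono : ∀ (nv i k : ℕ), i < nv → evM v k (unitMono nv i) = v (k + i) ^ 4
  | 0, i, k, h => absurd h (Nat.not_lt_zero i)
  | nv + 1, 0, k, _ => by
    rw [unitMono, evM, evM_zeros _ (fun x hx => List.eq_of_mem_replicate hx), mul_one, Nat.add_zero]
    norm_cast
  | nv + 1, i + 1, k, h => by
    rw [unitMono, evM, zpow_zero, one_mul, evM_unitMono nv i (k + 1) (by omega)]
    congr 2
    omega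

@[simp] theorem evP_nil : evP v [] = 0 := by simp [evP]

@[simp] theorem evP_single (e : Mono) : evP v [e] = evM v 0 e := by simp [evP]

theorem evP_cons (e : Mono) (p : Poly) : evP v (e :: p) = evM v 0 e + evP v p := by simp [evP]

section CharTwo

variable [CharP F 2]

theorem evP_toggle (m : Mono) : ∀ l : Poly, evP v (toggle m l) = evM v 0 m + evP v l
  | [] => by simp [toggle, evP]
  | x :: l => by
    simp only [toggle, cond_eq_ite, decide_eq_true_eq]
    split
    · next h => subst h; rw [evP_cons, ← add_assoc, CharTwo.add_self_eq_zero, zero_add]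
    · rw [evP_cons, evP_toggle m l, evP_cons]; ring

theorem evP_padd (p q : Poly) : evP v (padd p q) = evP v p + evP v q := by
  induction p with
  | nil => simp [padd]
  | cons a p ih =>
    rw [show padd (a :: p) q = toggle a (padd p q) from rfl, evP_toggle, ih, evP_cons, add_assoc]

theorem evP_pmul (hv : ∀ i, v i ≠ 0) : ∀ p q : Poly, evP v (pmul p q) = evP v p * evP v q
  | [], q => by simp [pmul]
  | a :: p, q => by
    have h : ∀ l : Poly, evP v ((q.map (madd a)).foldr toggle l) = evM v 0 a * evP v q + evP v l := by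
      intro l
      induction q with
      | nil => simp
      | cons b q ih =>
        rw [List.map_cons, List.foldr_cons, evP_toggle, ih, evM_madd hv, evP_cons]
        ring
    rw [pmul, h, evP_pmul hv p q, evP_cons]
    ring

theorem evP_ppow (hv : ∀ i, v i ≠ 0) (p : Poly) : ∀ n, evP v (ppow p n) = evP v p ^ n
  | 0 => by simp [ppow, evM]
  | n + 1 => by rw [ppow, evP_pmul hv, evP_ppow hv p n, pow_succ']

end CharTwo

/-! ### Words -/

variable (hW : GoodWeyl D)

/-- A root element by index. -/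
def xk (k : ℕ) (t : F) : GL D.Idx F := if h : k < D.nroots then X hW.good ⟨k, h⟩ t else 1

/-- The value of a word. -/
def evW (v : ℕ → F) (w : Word) : GL D.Idx F := (w.map fun l => xk hW l.1 (evP v l.2)).prod

/-- The indices of a word are positive roots. -/
def Ok (D : ChevalleyDatum) (w : Word) : Prop := ∀ l ∈ w, half D ≤ l.1 ∧ l.1 < D.nroots

/-- The series. -/
abbrev Nm (m : ℕ) : Subgroup (GL D.Idx F) := uGe hW.good F false m

variable {hW}

theorem xk_add (k : ℕ) (s t : F) : xk hW k s * xk hW k t = xk hW k (s + t) := by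
  unfold xk
  split
  · exact X_mul _ _ _ _
  · rw [mul_one]

theorem xk_zero (k : ℕ) : xk hW k (0 : F) = 1 := by
  unfold xk
  split
  · exact X_zero _ _
  · rfl

theorem xk_self_inv [CharP F 2] (k : ℕ) (t : F) : (xk hW k t)⁻¹ = xk hW k t :=
  inv_eq_of_mul_eq_one_right (by rw [xk_add, CharTwo.add_self_eq_zero, xk_zero])

theorem xk_mem_Nm {k m : ℕ} (t : F) (hk : half D ≤ k) (hn : k < D.nroots) (hm : m ≤ k) :
    xk hW k t ∈ Nm hW m := by
  rw [xk, dif_pos hn]
  exact X_mem_uGe _ hk hm t

theorem xk_mem_group (k : ℕ) (t : F) : xk hW k t ∈ D.group F := by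
  unfold xk
  split
  · exact X_mem_group _ _ _
  · exact one_mem _

theorem evW_append (w w' : Word) : evW hW v (w ++ w') = evW hW v w * evW hW v w' := by
  simp [evW, List.prod_append]

theorem evW_cons (k : ℕ) (p : Poly) (w : Word) :
    evW hW v ((k, p) :: w) = xk hW k (evP v p) * evW hW v w := by simp [evW]

@[simp] theorem evW_nil : evW hW v [] = 1 := by simp [evW]

theorem evW_mem_Nm {w : Word} {m : ℕ} (h : Ok D w) (hm : ∀ l ∈ w, m ≤ l.1) : evW hW v w ∈ Nm hW m := by
  refine Subgroup.list_prod_mem _ fun x hx => ?_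
  obtain ⟨l, hl, rfl⟩ := List.mem_map.1 hx
  exact xk_mem_Nm _ (h l hl).1 (h l hl).2 (hm l hl)

theorem evW_mem_pos {w : Word} (h : Ok D w) : evW hW v w ∈ Nm hW (half D) :=
  evW_mem_Nm h fun l hl => (h l hl).1

theorem Ok.append {w w' : Word} (h : Ok D w) (h' : Ok D w') : Ok D (w ++ w') := by
  intro l hl
  rcases List.mem_append.1 hl with hl | hl
  exacts [h l hl, h' l hl]

theorem Ok.cons {w : Word} {k : ℕ} {p : Poly} (hk : half D ≤ k ∧ k < D.nroots) (h : Ok D w) :
    Ok D ((k, p) :: w) := by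
  intro l hl
  rcases List.mem_cons.1 hl with rfl | hl
  exacts [hk, h l hl]

variable (hW) in
/-- Equality modulo a term of the series. -/
def Rel (m : ℕ) (a b : GL D.Idx F) : Prop := a⁻¹ * b ∈ Nm hW m

theorem Rel.rfl' {m : ℕ} (a : GL D.Idx F) : Rel hW m a a := by simp [Rel]

theorem Rel.of_eq {m : ℕ} {a b : GL D.Idx F} (h : a = b) : Rel hW m a b := h ▸ Rel.rfl' a

theorem Rel.trans {m : ℕ} {a b c : GL D.Idx F} (h : Rel hW m a b) (h' : Rel hW m b c) : Rel hW m a c := by
  have := mul_mem h h'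
  rwa [show a⁻¹ * b * (b⁻¹ * c) = a⁻¹ * c by group] at this

theorem Rel.symm {m : ℕ} {a b : GL D.Idx F} (h : Rel hW m a b) : Rel hW m b a := by
  have := inv_mem h
  rwa [show (a⁻¹ * b)⁻¹ = b⁻¹ * a by group] at this

theorem Rel.mul_left {m : ℕ} {a b : GL D.Idx F} (h : Rel hW m a b) (c : GL D.Idx F) :
    Rel hW m (c * a) (c * b) := by
  unfold Rel at h ⊢
  rwa [show (c * a)⁻¹ * (c * b) = a⁻¹ * b by group]

theorem norm_pos {m : ℕ} {u z : GL D.Idx F} (hu : u ∈ Nm hW (half D)) (hz : z ∈ Nm hW m) :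
    u⁻¹ * z * u ∈ Nm hW m := by
  have := (Subgroup.mem_normalizer_iff.1
    (uGe_half_le_normalizer hW.toGoodComm m (inv_mem hu)) z).1 hz
  rwa [inv_inv] at this

theorem Rel.mul_right {m : ℕ} {a b u : GL D.Idx F} (h : Rel hW m a b) (hu : u ∈ Nm hW (half D)) :
    Rel hW m (a * u) (b * u) := by
  unfold Rel at h ⊢
  rw [show (a * u)⁻¹ * (b * u) = u⁻¹ * (a⁻¹ * b) * u by group]
  exact norm_pos hu h

theorem Rel.mono {m m' : ℕ} (hm : m' ≤ m) {a b : GL D.Idx F} (h : Rel hW m a b) : Rel hW m' a b :=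
  uGe_mono _ hm h

theorem Rel.eq_of_top {a b : GL D.Idx F} (h : Rel hW D.nroots a b) : a = b := by
  rw [Rel, Nm, uGe_eq_bot _ le_rfl, Subgroup.mem_bot, inv_mul_eq_one] at h
  exact h

section Collect

variable [CharP F 2] {T : Tbl}

theorem terms_eq (hT : chkTbl D T = true) {r s : ℕ} (hr : half D ≤ r ∧ r < D.nroots)
    (hs : half D ≤ s ∧ s < D.nroots) (h : r ≠ s) : T.terms r s = oddTerms D r s := by
  simp only [chkTbl, Bool.and_eq_true, List.all_eq_true, Bool.or_eq_true, decide_eq_true_eq,
    List.mem_range'_1] at hT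
  exact (hT.1 r ⟨hr.1, by omega⟩ s ⟨hs.1, by omega⟩).resolve_left h

theorem reflAt_eq (hT : chkTbl D T = true) (i : Fin D.rank) (k : Root D) :
    T.reflAt i k = D.reflectRoot i k ∧ T.cartAt i k = D.cartan i k := by
  simp only [chkTbl, Bool.and_eq_true, List.all_eq_true, decide_eq_true_eq, List.mem_range] at hT
  exact hT.2 i i.2 k k.2

theorem cast_odd (c : ℤ) : (c : F) = if c % 2 = 0 then 0 else 1 := by
  rw [show c = 2 * (c / 2) + c % 2 from (Int.mul_ediv_add_emod c 2).symm]
  push_cast
  rw [show (2 : F) = 0 from CharTwo.two_eq_zero, zero_mul, zero_add,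
    show (2 * (c / 2) + c % 2) % 2 = c % 2 by omega]
  rcases Int.emod_two_eq_zero_or_one c with h | h <;> simp [h]

/-- The exchange of two positive root elements. -/
theorem exchange (hv : ∀ i, v i ≠ 0) (hT : chkTbl D T = true) {a b : ℕ}
    (ha : half D ≤ a ∧ a < D.nroots) (hb : half D ≤ b ∧ b < D.nroots) (hab : a ≠ b) (p q : Poly) :
    evW hW v ((b, q) :: (a, p) :: ((T.terms b a).map fun c => (c.1, pmul (ppow q c.2.1) (ppow p c.2.2)))) =
      xk hW a (evP v p) * xk hW b (evP v q) := by
  rw [evW_cons, evW_cons, terms_eq hT hb ha hab.symm, ← mul_assoc]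
  have hne : (⟨a, ha.2⟩ : Root D) ≠ ⟨b, hb.2⟩ := fun e => hab (congrArg Fin.val e)
  have key := X_comm hW.toGoodComm (⟨b, hb.2⟩ : Root D) ⟨a, ha.2⟩ hne
    (hW.good.rev_ne_of_key (b := false) hb.1 ha.1) (evP v q) (evP v p)
  unfold xk
  rw [dif_pos hb.2, dif_pos ha.2, key]
  congr 1
  rw [commRhs, wordGL, oddTerms, evW]
  induction D.commTerms b a with
  | nil => simp
  | cons c L ih =>
    rw [List.filterMap_cons, List.map_cons, List.map_cons, List.prod_cons]
    have hcast := cast_odd (F := F) c.2.1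
    by_cases hc : c.2.1 % 2 = 0
    · simp only [hc, decide_true, cond_true]
      rw [ih]
      simp [hcast, hc, X_zero]
    · simp only [hc, decide_false, cond_false, List.map_cons, List.prod_cons]
      rw [ih]
      congr 1
      simp only [xk, hcast, hc, if_false, one_mul, CharTwo.neg_eq, evP_pmul hv, evP_ppow hv]

theorem ok_terms (hW : GoodWeyl D) (hT : chkTbl D T = true) {a b : ℕ} (ha : half D ≤ a ∧ a < D.nroots)
    (hb : half D ≤ b ∧ b < D.nroots) (hab : a ≠ b) (f : ℕ × ℕ × ℕ → Poly) :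
    Ok D ((T.terms b a).map fun c => (c.1, f c)) := by
  intro l hl
  obtain ⟨c, hc, rfl⟩ := List.mem_map.1 hl
  rw [terms_eq hT hb ha hab.symm, oddTerms, List.mem_filterMap] at hc
  obtain ⟨d, hd, hdc⟩ := hc
  obtain ⟨h, h1, -⟩ := Good.commTerms_key hW.toGoodComm (b := false) (r := (⟨b, hb.2⟩ : Root D))
    (s := ⟨a, ha.2⟩) hb.1 ha.1 hd
  rw [cond_eq_ite] at hdc
  split at hdc
  · exact absurd hdc (by simp)
  · cases hdc
    exact ⟨(hb.1.trans h1.le : half D ≤ d.1), h⟩

theorem coll_spec (hv : ∀ i, v i ≠ 0) (hT : chkTbl D T = true) (top : ℕ) :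
    ∀ (f : ℕ) (acc todo w' : Word), Ok D acc → Ok D todo → coll T top f acc todo = some w' →
      Ok D w' ∧ Rel hW top (evW hW v (acc.reverse ++ todo)) (evW hW v w') := by
  intro f
  induction f with
  | zero => intro acc todo w' _ _ h; simp [coll] at h
  | succ f ih =>
    intro acc todo w' ha ht h
    rcases todo with _ | ⟨⟨b, q⟩, rest⟩
    · rw [coll, Option.some.injEq] at h
      subst h
      exact ⟨fun l hl => ha l (List.mem_reverse.1 hl), by rw [List.append_nil]; exact Rel.rfl' _⟩
    have hb := ht (b, q) (by simp)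
    have hrest : Ok D rest := fun l hl => ht l (by simp [hl])
    simp only [coll, cond_eq_ite, Bool.or_eq_true, decide_eq_true_eq, List.isEmpty_iff] at h
    by_cases hq : q = [] ∨ top ≤ b
    · rw [if_pos hq] at h
      obtain ⟨o, hr⟩ := ih acc rest w' ha hrest h
      refine ⟨o, Rel.trans ?_ hr⟩
      rw [evW_append, evW_append, evW_cons]
      refine Rel.mul_left ?_ _
      rcases hq with rfl | hq
      · rw [evP_nil, xk_zero, one_mul]; exact Rel.rfl' _
      · have hz : xk hW b (evP v q) ∈ Nm hW top := xk_mem_Nm _ hb.1 hb.2 hq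
        show (xk hW b (evP v q) * evW hW v rest)⁻¹ * evW hW v rest ∈ Nm hW top
        rw [mul_inv_rev]
        exact norm_pos (evW_mem_pos hrest) (inv_mem hz)
    rw [if_neg hq] at h
    rcases acc with _ | ⟨⟨a, p⟩, acc'⟩
    · obtain ⟨o, hr⟩ := ih [(b, q)] rest w' (Ok.cons hb ha) hrest h
      exact ⟨o, by simpa using hr⟩
    have haa := ha (a, p) (by simp)
    have ha' : Ok D acc' := fun l hl => ha l (by simp [hl])
    simp only [cond_eq_ite, decide_eq_true_eq] at h
    by_cases hlt : a < b
    · rw [if_pos hlt] at h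
      obtain ⟨o, hr⟩ := ih _ rest w' (Ok.cons hb ha) hrest h
      exact ⟨o, by simpa using hr⟩
    rw [if_neg hlt] at h
    by_cases hab : a = b
    · subst hab
      rw [if_pos rfl] at h
      obtain ⟨o, hr⟩ := ih acc' _ w' ha' (Ok.cons hb hrest) h
      refine ⟨o, Rel.trans (Rel.of_eq ?_) hr⟩
      simp only [List.reverse_cons, List.append_assoc, List.cons_append, List.nil_append, evW_append,
        evW_cons, ← mul_assoc, evP_padd, xk_add]
    · rw [if_neg hab] at h
      have hterms := ok_terms hW hT haa hb hab fun c => pmul (ppow q c.2.1) (ppow p c.2.2)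
      obtain ⟨o, hr⟩ := ih acc' _ w' ha' ((Ok.cons hb (Ok.cons haa hterms)).append hrest) h
      refine ⟨o, Rel.trans (Rel.of_eq ?_) hr⟩
      simp only [List.reverse_cons, List.append_assoc, List.cons_append, List.nil_append, evW_append]
      congr 1
      rw [evW_cons, evW_cons, ← mul_assoc, ← exchange hv hT haa hb hab, ← evW_append]
      simp

theorem collect_spec (hv : ∀ i, v i ≠ 0) (hT : chkTbl D T = true) {top : ℕ} {w w' : Word}
    (hw : Ok D w) (h : collect T top w = some w') :
    Ok D w' ∧ Rel hW top (evW hW v w) (evW hW v w') := by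
  have := coll_spec (hW := hW) hv hT top 100000 [] w w' (fun l hl => absurd hl (List.not_mem_nil)) hw h
  simpa using this

end Collect

end CfsgLib.UniInvol
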