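import Cfsg.Agent.UniInvol.Sound

/-!
# Every involution of a checked table is conjugate to a representative
-/

set_option autoImplicit false
set_option linter.unusedSectionVars false

namespace CfsgLib.UniInvol

open Cfsg.Lie CfsgLib.Chevalley

variable {D : ChevalleyDatum} {F : Type*} [Field F] [CharP F 2] {hW : GoodWeyl D} {T : Tbl}
variable {v : ℕ → F}

/-- Conjugation by a group element sending the subgroup `Nm m` into itself. -/
theorem conj_rel {m : ℕ} {h : GL D.Idx F} (hN : ∀ z ∈ Nm hW m, h * z * h⁻¹ ∈ Nm hW m)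
    {a g : GL D.Idx F} (hr : Rel hW m a g) : Rel hW m (h * a * h⁻¹) (h * g * h⁻¹) := by
  unfold Rel at hr ⊢
  rw [show (h * a * h⁻¹)⁻¹ * (h * g * h⁻¹) = h * (a⁻¹ * g) * h⁻¹ by group]
  exact hN _ hr

theorem conj_closure {h : GL D.Idx F} {m : ℕ}
    (hgen : ∀ r : Root D, half D ≤ (r : ℕ) → m ≤ (r : ℕ) → ∀ t, h * X hW.good r t * h⁻¹ ∈ Nm hW m)
    {z : GL D.Idx F} (hz : z ∈ Nm hW m) : h * z * h⁻¹ ∈ Nm hW m := by
  have hle : Nm hW m ≤ (Nm hW m).comap (MulAut.conj h).toMonoidHom := by
    refine (Subgroup.closure_le _).2 ?_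
    rintro _ ⟨r, h1, h2, t, rfl⟩
    exact hgen r h1 h2 t
  exact hle hz

theorem conj_word (h : GL D.Idx F) (f : ℕ × Poly → ℕ × Poly) (w : Word)
    (hf : ∀ l ∈ w, h * xk hW l.1 (evP v l.2) * h⁻¹ = xk hW (f l).1 (evP v (f l).2)) :
    h * evW hW v w * h⁻¹ = evW hW v (w.map f) := by
  induction w with
  | nil => simp
  | cons l w ih =>
    obtain ⟨k, p⟩ := l
    rw [List.map_cons, evW_cons, show f (k, p) = ((f (k, p)).1, (f (k, p)).2) from rfl, evW_cons,
      ← hf _ (by simp), ← ih fun l hl => hf l (by simp [hl])]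
    group

theorem evP_map_madd (hv : ∀ i, v i ≠ 0) (e : Mono) : ∀ p : Poly,
    evP v (p.map (madd e)) = evM v 0 e * evP v p
  | [] => by simp
  | a :: p => by rw [List.map_cons, evP_cons, evP_cons, evP_map_madd hv e p, evM_madd hv, mul_add]

theorem step_spec (hv : ∀ i, v i ≠ 0) (hTb : chkTbl D T = true) {m : ℕ} (hm : half D ≤ m) {w w' : Word}
    (hw : Ok D w) (mv : Mv) (hs : step D T m w mv = some w') {g : GL D.Idx F}
    (hg : Rel hW m (evW hW v w) g) :
    Ok D w' ∧ ∃ h ∈ D.group F, Rel hW m (evW hW v w') (h * g * h⁻¹) := by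
  cases mv with
  | x j e =>
    simp only [step, cond_eq_ite, Bool.and_eq_true, decide_eq_true_eq] at hs
    split at hs
    swap
    · simp at hs
    next hj =>
      have h0 : Ok D [(j, [e])] := Ok.cons hj fun l hl => absurd hl (List.not_mem_nil)
      obtain ⟨o, hr⟩ := collect_spec (hW := hW) hv hTb ((Ok.cons hj hw).append h0) hs
      refine ⟨o, xk hW j (evP v [e]), xk_mem_group _ _, Rel.trans hr.symm ?_⟩
      rw [evW_append, evW_cons, evW_cons, evW_nil, mul_one]
      conv => arg 3; arg 2; rw [← xk_self_inv]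
      refine conj_rel (fun z hz => ?_) hg
      rw [xk, dif_pos hj.2]
      exact conj_mem_uGe hW.toGoodComm (b := false) (a := (⟨j, hj.2⟩ : Root D)) hj.1 _ m hz
  | h i e =>
    simp only [step, cond_eq_ite, decide_eq_true_eq] at hs
    split at hs
    swap
    · simp at hs
    next hi =>
      rw [Option.some.injEq] at hs
      subst hs
      set t : Fˣ := Units.mk0 (evM v 0 e) (evM_ne_zero hv e 0)
      refine ⟨fun l hl => by obtain ⟨l', hl', rfl⟩ := List.mem_map.1 hl; exact hw l' hl',
        hT F (pRoot hW ⟨i, hi⟩) t, diag_le_group hW (hT_mem_diagonal hW _ _), ?_⟩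
      rw [← conj_word (hT F (pRoot hW ⟨i, hi⟩) t) _ w fun l hl => ?_]
      · refine conj_rel (fun z hz => conj_closure (fun r h1 h2 u => ?_) hz) hg
        rw [hT_pRoot_conj_X]
        exact X_mem_uGe _ h1 h2 _
      · rw [xk, xk, dif_pos (hw l hl).2, dif_pos (hw l hl).2, hT_pRoot_conj_X, evP_map_madd hv, evM_msmul,
          (reflAt_eq hTb ⟨i, hi⟩ ⟨l.1, (hw l hl).2⟩).2]
        simp [t]
  | n i =>
    simp only [step, cond_eq_ite] at hs
    by_cases hc : (decide (i < D.rank) && (w.all fun l => decide (half D ≤ T.reflAt i l.1)) &&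
        (List.range' m (D.nroots - m)).all fun k => decide (m ≤ T.reflAt i k)) = true
    swap
    · rw [if_neg hc] at hs; simp at hs
    · rw [if_pos hc] at hs
      simp only [Bool.and_eq_true, decide_eq_true_eq, List.all_eq_true, List.mem_range'_1] at hc
      obtain ⟨⟨hi, hpos⟩, hN⟩ := hc
      have hrefl : ∀ k : Root D, (wPerm hW ⟨i, hi⟩ k : ℕ) = T.reflAt i k := fun k => by
        rw [hW.wPerm_val, (reflAt_eq hTb ⟨i, hi⟩ k).1]
      have hconj : ∀ (k : Root D) (u : F), nR hW ⟨i, hi⟩ * X hW.good k u * (nR hW ⟨i, hi⟩)⁻¹ =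
          X hW.good (wPerm hW ⟨i, hi⟩ k) u := fun k u => by
        rw [nR_conj]
        congr 1
        rcases Int.eq_one_or_neg_one_of_mul_eq_one (hW.eta_sq ⟨i, hi⟩ k) with e | e <;>
          simp [e, CharTwo.neg_eq]
      have hlt : ∀ l ∈ w, T.reflAt i l.1 < D.nroots := fun l hl => by
        rw [show T.reflAt i l.1 = (wPerm hW ⟨i, hi⟩ ⟨l.1, (hw l hl).2⟩ : ℕ) from (hrefl ⟨l.1, (hw l hl).2⟩).symm]
        exact Fin.is_lt _
      have hw2 : Ok D (w.map fun l => (T.reflAt i l.1, l.2)) := fun l hl => by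
        obtain ⟨l', hl', rfl⟩ := List.mem_map.1 hl
        exact ⟨hpos l' hl', hlt l' hl'⟩
      obtain ⟨o, hr⟩ := collect_spec (hW := hW) hv hTb hw2 hs
      refine ⟨o, nR hW ⟨i, hi⟩, nR_mem_group hW _, Rel.trans hr.symm ?_⟩
      rw [← conj_word (nR hW ⟨i, hi⟩) _ w fun l hl => ?_]
      · refine conj_rel (fun z hz => conj_closure (fun r h1 h2 u => ?_) hz) hg
        rw [hconj]
        have hm' : m ≤ (wPerm hW ⟨i, hi⟩ r : ℕ) := by
          rw [hrefl]; exact hN r ⟨h2, by have := r.2; omega⟩
        exact X_mem_uGe (b := false) _ (r := wPerm hW ⟨i, hi⟩ r) (hm.trans hm') hm' _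
      · rw [xk, xk, dif_pos (hw l hl).2, dif_pos (hlt l hl), hconj]
        congr 1
        exact Fin.ext (hrefl _)

theorem run_spec (hv : ∀ i, v i ≠ 0) (hTb : chkTbl D T = true) {m : ℕ} (hm : half D ≤ m) :
    ∀ (mvs : List Mv) (w w' : Word), Ok D w → run D T m w mvs = some w' →
      ∀ g : GL D.Idx F, Rel hW m (evW hW v w) g →
        Ok D w' ∧ ∃ h ∈ D.group F, Rel hW m (evW hW v w') (h * g * h⁻¹)
  | [], w, w', hw, hs, g, hg => by
    rw [run, Option.some.injEq] at hs
    subst hs
    exact ⟨hw, 1, one_mem _, by simpa using hg⟩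
  | mv :: mvs, w, w', hw, hs, g, hg => by
    rw [run] at hs
    cases h1 : step D T m w mv with
    | none => rw [h1] at hs; simp at hs
    | some w1 =>
      rw [h1] at hs
      obtain ⟨o, h, hh, hr⟩ := step_spec hv hTb hm hw mv h1 hg
      obtain ⟨o', h', hh', hr'⟩ := run_spec hv hTb hm mvs w1 w' o hs _ hr
      refine ⟨o', h' * h, mul_mem hh' hh, ?_⟩
      rwa [show h' * h * g * (h' * h)⁻¹ = h' * (h * g * h⁻¹) * h'⁻¹ by group]

/-! ### Patterns -/

theorem ok_initFrom {nv : ℕ} : ∀ {P : List ℕ} {i : ℕ}, (∀ k ∈ P, half D ≤ k ∧ k < D.nroots) →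
    Ok D (initFrom nv i P)
  | [], _, _ => fun l hl => absurd hl (List.not_mem_nil)
  | k :: P, i, h => Ok.cons (h k (by simp)) (ok_initFrom fun x hx => h x (by simp [hx]))

variable (hW) in
/-- The element of a pattern with parameters. -/
def patFrom (c : ℕ → F) : ℕ → List ℕ → GL D.Idx F
  | _, [] => 1
  | i, k :: P => xk hW k (c i) * patFrom c (i + 1) P

theorem evW_initFrom {nv : ℕ} : ∀ (P : List ℕ) (i : ℕ), i + P.length ≤ nv →
    evW hW v (initFrom nv i P) = patFrom hW (fun j => v j ^ 4) i P
  | [], _, _ => by simp [initFrom, patFrom]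
  | k :: P, i, h => by
    simp only [List.length_cons] at h
    rw [initFrom, evW_cons, patFrom, evW_initFrom P (i + 1) (by omega), evP_single,
      evM_unitMono _ _ _ (by omega), Nat.zero_add]

theorem patFrom_congr {c c' : ℕ → F} : ∀ (P : List ℕ) (i : ℕ),
    (∀ j, i ≤ j → j < i + P.length → c j = c' j) → patFrom hW c i P = patFrom hW c' i P
  | [], _, _ => rfl
  | k :: P, i, h => by
    simp only [List.length_cons] at h
    rw [patFrom, patFrom, h i le_rfl (by omega),
      patFrom_congr P (i + 1) fun j h1 h2 => h j (by omega) (by omega)]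

theorem patFrom_append (c : ℕ → F) : ∀ (P : List ℕ) (i k : ℕ),
    patFrom hW c i (P ++ [k]) = patFrom hW c i P * xk hW k (c (i + P.length))
  | [], i, k => by simp [patFrom]
  | a :: P, i, k => by
    rw [List.cons_append, patFrom, patFrom, patFrom_append c P (i + 1) k, mul_assoc, List.length_cons,
      show i + 1 + P.length = i + (P.length + 1) by omega]

variable (hW) in
/-- Conjugate to a representative. -/
def Done (reps : List (List ℕ)) (g : GL D.Idx F) : Prop :=
  ∃ h ∈ D.group F, ∃ R ∈ reps, h * g * h⁻¹ = patFrom hW (fun _ => (1 : F)) 0 R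

theorem Done.of_conj {reps : List (List ℕ)} {g k : GL D.Idx F} (hk : k ∈ D.group F)
    (h : Done hW reps (k * g * k⁻¹)) : Done hW reps g := by
  obtain ⟨m, hm, R, hR, e⟩ := h
  refine ⟨m * k, mul_mem hm hk, R, hR, ?_⟩
  rw [← e]
  group

variable (hW) in
/-- All involutions with this pattern in front are conjugate to representatives. -/
def Good' (F' : Type*) [Field F'] (reps : List (List ℕ)) (P : List ℕ) (m : ℕ) : Prop :=
  ∀ (g : GL D.Idx F') (c : ℕ → F'), g * g = 1 → g ≠ 1 → (∀ i, c i ≠ 0) →
    Rel hW m (patFrom hW c 0 P) g → Done hW reps g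

theorem patFrom_singles : ∀ (w : Word) (l : List (ℕ × Mono)), singles w = some l → ∀ (c : ℕ → F) (i : ℕ),
    (∀ (j : ℕ) (hj : j < l.length), c (i + j) = evM v 0 (l[j]).2) →
    evW hW v w = patFrom hW c i (l.map Prod.fst)
  | [], l, h, c, i, _ => by
    rw [singles, Option.some.injEq] at h
    subst h
    simp [patFrom]
  | (k, [e]) :: w, l, h, c, i, hc => by
    rw [singles, Option.map_eq_some_iff] at h
    obtain ⟨l', hl', rfl⟩ := h
    rw [evW_cons, List.map_cons, patFrom, evP_single, show c i = evM v 0 e from hc 0 (by simp),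
      patFrom_singles w l' hl' c (i + 1) fun j hj => by
        rw [show i + 1 + j = i + (j + 1) by omega]
        exact hc (j + 1) (by simp [hj])]
  | (k, []) :: w, l, h, _, _, _ => by simp [singles] at h
  | (k, _ :: _ :: _) :: w, l, h, _, _, _ => by simp [singles] at h

theorem exists_head {m : ℕ} (hm : half D ≤ m) (hm' : m < D.nroots) {z : GL D.Idx F} (hz : z ∈ Nm hW m) :
    ∃ c : F, Rel hW (m + 1) (xk hW m c) z := by
  obtain ⟨t, rfl⟩ := exists_prodFrom hW.toGoodComm (D.nroots - m) m hm (by omega) z hz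
  refine ⟨t m, ?_⟩
  obtain ⟨j, hj⟩ : ∃ j, D.nroots - m = j + 1 := ⟨D.nroots - m - 1, by omega⟩
  rw [hj, prodFrom_succ, xk, dif_pos hm', Rel,
    show rootOf hW.good false m = (⟨m, hm'⟩ : Root D) from rootOf_false hW.good hm', inv_mul_cancel_left]
  exact prodFrom_mem _ _ (by omega) (by omega)

variable [Fintype F]

theorem exists_fourth_root {c : F} (hc : c ≠ 0) : ∃ r : F, r ≠ 0 ∧ r ^ 4 = c := by
  obtain ⟨y, hy⟩ := FiniteField.isSquare_of_char_two (ringChar.eq F 2) c
  obtain ⟨r, hr⟩ := FiniteField.isSquare_of_char_two (ringChar.eq F 2) y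
  refine ⟨r, fun h => hc (by rw [hy, hr, h]; simp), ?_⟩
  rw [hy, hr]
  ring

theorem exists_roots (c : ℕ → F) (hc : ∀ i, c i ≠ 0) : ∃ v : ℕ → F, (∀ i, v i ≠ 0) ∧ ∀ i, v i ^ 4 = c i :=
  ⟨fun i => (exists_fourth_root (hc i)).choose, fun i => (exists_fourth_root (hc i)).choose_spec.1,
    fun i => (exists_fourth_root (hc i)).choose_spec.2⟩

theorem chkTree_spec (hTb : chkTbl D T = true) {reps : List (List ℕ)} {tab : List (List ℕ × ℕ)}
    (htab : ∀ e ∈ tab, Good' hW F reps e.1 e.2) : ∀ (t : Tree) (P : List ℕ) (m : ℕ),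
    half D ≤ m → m ≤ D.nroots → (∀ k ∈ P, half D ≤ k ∧ k < D.nroots) →
    chkTree D T reps tab t P m = true → Good' hW F reps P m := by
  intro t
  induction t with
  | bad L =>
    intro P m hm hmn hP hchk g c h2 h1 hc hg
    simp only [chkTree, Bool.and_eq_true, decide_eq_true_eq] at hchk
    obtain ⟨hL, hbad⟩ := hchk
    obtain ⟨v, hv, hvc⟩ := exists_roots c hc
    have hpat : evW hW v (initWord P.length P) = patFrom hW c 0 P := by
      rw [initWord, evW_initFrom P 0 (by omega)]
      exact patFrom_congr P 0 fun j _ _ => hvc j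
    unfold chkBad at hbad
    split at hbad
    swap
    · simp at hbad
    next k mn rest hcol =>
      simp only [Bool.and_eq_true, decide_eq_true_eq, List.all_eq_true] at hbad
      have hwo : Ok D (initWord P.length P ++ initWord P.length P) := (ok_initFrom hP).append (ok_initFrom hP)
      obtain ⟨o, hr⟩ := collect_spec (hW := hW) hv hTb hwo hcol
      rw [evW_append, hpat] at hr
      have hgp : g ∈ Nm hW (half D) := by
        have h0 : patFrom hW c 0 P ∈ Nm hW (half D) := hpat ▸ evW_mem_pos (ok_initFrom hP)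
        have := mul_mem h0 (uGe_mono hW.good hm hg)
        rwa [mul_inv_cancel_left] at this
      have hgL : Rel hW L (patFrom hW c 0 P) g := hg.mono hL
      have hsq : Rel hW L (patFrom hW c 0 P * patFrom hW c 0 P) (g * g) :=
        (hgL.mul_left _).trans (hgL.mul_right hgp)
      rw [h2] at hsq
      have hkk := o (k, [mn]) (by simp)
      have h3 : evW hW v ((k, [mn]) :: rest) ∈ Nm hW L := by
        have := hsq.symm.trans hr
        rwa [Rel, inv_one, one_mul] at this
      have hrest : evW hW v rest ∈ Nm hW (k + 1) :=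
        evW_mem_Nm (fun l hl => o l (by simp [hl])) fun l hl => hbad.2 l hl
      rw [evW_cons, evP_single] at h3
      have h4 : xk hW k (evM v 0 mn) ∈ Nm hW (k + 1) := by
        have := mul_mem (uGe_mono hW.good hbad.1 h3) (inv_mem hrest)
        rwa [mul_inv_cancel_right] at this
      rw [xk, dif_pos hkk.2] at h4
      exact absurd h4 (ChevParabolic.X_notMem_uGe hW.toGoodUni hkk.1 (evM_ne_zero hv mn 0) le_rfl)
  | triv =>
    intro P m _ _ _ hchk g c _ h1 _ hg
    simp only [chkTree, Bool.and_eq_true, List.isEmpty_iff, decide_eq_true_eq] at hchk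
    obtain ⟨rfl, rfl⟩ := hchk
    exact absurd (Rel.eq_of_top hg).symm h1
  | split z nz ihz ihnz =>
    intro P m hm hmn hP hchk g c h2 h1 hc hg
    simp only [chkTree, Bool.and_eq_true, decide_eq_true_eq] at hchk
    obtain ⟨⟨hlt, hz⟩, hnz⟩ := hchk
    obtain ⟨d, hd⟩ := exists_head hm hlt hg
    have hd' : Rel hW (m + 1) (patFrom hW c 0 P * xk hW m d) g := by
      have := hd.mul_left (patFrom hW c 0 P)
      rwa [mul_inv_cancel_left] at this
    by_cases hd0 : d = 0
    · subst hd0
      rw [xk_zero, mul_one] at hd'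
      exact ihz P (m + 1) (by omega) hlt hP hz g c h2 h1 hc hd'
    · refine ihnz (P ++ [m]) (m + 1) (by omega) hlt (fun k hk => ?_) hnz g
        (Function.update c P.length d) h2 h1 (fun i => ?_) ?_
      · rcases List.mem_append.1 hk with hk | hk
        · exact hP k hk
        · obtain rfl := List.mem_singleton.1 hk; exact ⟨hm, hlt⟩
      · rcases eq_or_ne i P.length with rfl | hi
        · rwa [Function.update_self]
        · rw [Function.update_of_ne hi]; exact hc i
      · rw [patFrom_append, Nat.zero_add, Function.update_self,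
          patFrom_congr P 0 (c' := c) fun j _ hj => Function.update_of_ne (by omega) _ _]
        exact hd'
  | kill mv z ihz =>
    intro P m hm hmn hP hchk g c h2 h1 hc hg
    simp only [chkTree, Bool.and_eq_true, decide_eq_true_eq] at hchk
    obtain ⟨⟨hlt, hz⟩, hk⟩ := hchk
    obtain ⟨d, hd⟩ := exists_head hm hlt hg
    have hd' : Rel hW (m + 1) (patFrom hW c 0 P * xk hW m d) g := by
      have := hd.mul_left (patFrom hW c 0 P)
      rwa [mul_inv_cancel_left] at this
    by_cases hd0 : d = 0
    · subst hd0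
      rw [xk_zero, mul_one] at hd'
      exact ihz P (m + 1) (by omega) hlt hP hz g c h2 h1 hc hd'
    · obtain ⟨v, hv, hvc⟩ := exists_roots (Function.update c P.length d) (fun i => by
        rcases eq_or_ne i P.length with rfl | hi
        · rwa [Function.update_self]
        · rw [Function.update_of_ne hi]; exact hc i)
      have hPm : ∀ k ∈ P ++ [m], half D ≤ k ∧ k < D.nroots := fun k hk => by
        rcases List.mem_append.1 hk with hk | hk
        · exact hP k hk
        · obtain rfl := List.mem_singleton.1 hk; exact ⟨hm, hlt⟩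
      have hcP : patFrom hW (fun j => v j ^ 4) 0 P = patFrom hW c 0 P :=
        patFrom_congr P 0 fun j _ hj => by rw [hvc, Function.update_of_ne (by omega)]
      have hev : Rel hW (m + 1) (evW hW v (initWord (P.length + 1) (P ++ [m]))) g := by
        rw [initWord, evW_initFrom _ 0 (by simp), patFrom_append, hcP, Nat.zero_add, hvc,
          Function.update_self]
        exact hd'
      obtain ⟨-, h, hh, hr⟩ := run_spec hv hTb (by omega : half D ≤ m + 1) mv _ _ (ok_initFrom hPm) hk g hev
      refine Done.of_conj hh (ihz P (m + 1) (by omega) hlt hP hz _ c ?_ ?_ hc ?_)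
      · rw [show h * g * h⁻¹ * (h * g * h⁻¹) = h * (g * g) * h⁻¹ by group, h2, mul_one, mul_inv_cancel]
      · exact fun e => h1 (conj_eq_one_iff.1 e)
      · rwa [initWord, evW_initFrom _ 0 (by omega), hcP] at hr
  | goto mv idx =>
    intro P m hm hmn hP hchk g c h2 h1 hc hg
    simp only [chkTree] at hchk
    split at hchk
    swap
    · simp at hchk
    next w hw =>
      split at hchk
      swap
      · simp at hchk
      next l e hl he =>
        simp only [Bool.and_eq_true, decide_eq_true_eq] at hchk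
        obtain ⟨v, hv, hvc⟩ := exists_roots c hc
        have hev : Rel hW m (evW hW v (initWord P.length P)) g := by
          rwa [initWord, evW_initFrom P 0 (by omega), patFrom_congr P 0 (c' := c) fun j _ _ => hvc j]
        obtain ⟨-, h, hh, hr⟩ := run_spec hv hTb hm mv _ _ (ok_initFrom hP) hw g hev
        let c' : ℕ → F := fun j => if hj : j < l.length then evM v 0 (l[j]).2 else 1
        rw [patFrom_singles w l hl c' 0 (fun j hj => by simp [c', hj]), hchk.1] at hr
        refine Done.of_conj hh (htab e (List.mem_of_getElem? he) _ c' ?_ ?_ ?_ (hchk.2 ▸ hr))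
        · rw [show h * g * h⁻¹ * (h * g * h⁻¹) = h * (g * g) * h⁻¹ by group, h2, mul_one, mul_inv_cancel]
        · exact fun e => h1 (conj_eq_one_iff.1 e)
        · intro j
          simp only [c']
          split
          · exact evM_ne_zero hv _ 0
          · exact one_ne_zero
  | fin mv idx =>
    intro P m hm hmn hP hchk g c h2 h1 hc hg
    simp only [chkTree, Bool.and_eq_true, decide_eq_true_eq] at hchk
    obtain ⟨rfl, hchk⟩ := hchk
    split at hchk
    swap
    · simp at hchk
    next w hw =>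
      split at hchk
      swap
      · simp at hchk
      next l R hl hR =>
        simp only [Bool.and_eq_true, decide_eq_true_eq, List.all_eq_true] at hchk
        obtain ⟨v, hv, hvc⟩ := exists_roots c hc
        have hev : Rel hW D.nroots (evW hW v (initWord P.length P)) g := by
          rwa [initWord, evW_initFrom P 0 (by omega), patFrom_congr P 0 (c' := c) fun j _ _ => hvc j]
        obtain ⟨-, h, hh, hr⟩ := run_spec hv hTb hm mv _ _ (ok_initFrom hP) hw g hev
        refine ⟨h, hh, R, List.mem_of_getElem? hR, ?_⟩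
        rw [← hchk.1, ← patFrom_singles w l hl (fun _ => (1 : F)) 0 fun j hj =>
          (evM_zeros _ (hchk.2 _ (List.getElem_mem hj)) 0).symm]
        exact (Rel.eq_of_top hr).symm

theorem chkTable_spec (hTb : chkTbl D T = true) {reps : List (List ℕ)} :
    ∀ tab : List (List ℕ × ℕ × Tree), chkTable D T reps tab = true →
      ∀ e ∈ tab, Good' hW F reps e.1 e.2.1
  | [], _ => fun e he => absurd he (List.not_mem_nil)
  | (P, m, t) :: rest, h => by
    simp only [chkTable, Bool.and_eq_true, decide_eq_true_eq, List.all_eq_true] at h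
    obtain ⟨⟨⟨⟨hm, hmn⟩, hP⟩, ht⟩, hrest⟩ := h
    have ih := chkTable_spec hTb rest hrest
    intro e he
    rcases List.mem_cons.1 he with rfl | he
    · refine chkTree_spec hTb (fun e he => ?_) t P m hm hmn hP ht
      obtain ⟨e', he', rfl⟩ := List.mem_map.1 he
      exact ih e' he'
    · exact ih e he

/-- Every involution of the positive unipotent subgroup is conjugate to a representative. -/
theorem exists_conj_rep (hTb : chkTbl D T = true) {reps : List (List ℕ)} {t : Tree}
    {rest : List (List ℕ × ℕ × Tree)} (htab : chkTable D T reps (([], half D, t) :: rest) = true)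
    {g : GL D.Idx F} (hg : g ∈ Nm hW (half D)) (h2 : g * g = 1) (h1 : g ≠ 1) : Done hW reps g := by
  have h : Good' hW F reps [] (half D) := chkTable_spec hTb _ htab ([], half D, t) (by simp)
  exact h g (fun _ => 1) h2 h1 (fun _ => one_ne_zero) (by simpa [Rel, patFrom] using hg)

end CfsgLib.UniInvol
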